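import Cfsg.Agent.Lib.Chev.ReeCover.Frob

/-!
# The bound on the Frobenius sum for an element of a torus with an exceptional family
-/

set_option autoImplicit false
set_option linter.unusedSectionVars false

namespace CfsgLib.Chev.ReeCover

open CfsgLib.Char
open scoped ComplexConjugate

variable {G : Type*} [Group G] [Fintype G] [Fintype (Cfsg.IrrCharacter G)]
variable {T : TorusData G} (F : Fam T)

/-- The squared length of the non-exceptional part. -/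
def Fam.rho : ℤ := 5 - 2 * F.ε * F.j - F.n * (F.j * F.j)

open scoped Classical in
/-- The non-exceptional non-trivial characters. -/
noncomputable def Fam.rest : Finset (Cfsg.IrrCharacter G) :=
  Finset.univ.erase oneIrr \ Finset.univ.image F.Θ

open scoped Classical in
theorem Fam.split {M : Type*} [AddCommMonoid M] (f : Cfsg.IrrCharacter G → M) :
    ∑ χ ∈ Finset.univ.erase oneIrr, f χ = ∑ χ ∈ F.rest, f χ + ∑ i, f (F.Θ i) := by
  rw [← Finset.sum_image (s := Finset.univ) (g := F.Θ) (f := f) fun a _ b _ h => F.inj h, Fam.rest,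
    Finset.sum_sdiff fun χ hχ => ?_]
  refine Finset.mem_erase.2 ⟨fun e => ?_, Finset.mem_univ _⟩
  obtain ⟨i, -, hi⟩ := Finset.mem_image.1 hχ
  exact F.notMem ⟨i, hi.trans e⟩

theorem Fam.split_all {M : Type*} [AddCommMonoid M] (f : Cfsg.IrrCharacter G → M) :
    ∑ χ, f χ = f oneIrr + (∑ χ ∈ F.rest, f χ + ∑ i, f (F.Θ i)) := by
  classical
  rw [← F.split, Finset.add_sum_erase _ _ (Finset.mem_univ _)]

theorem Fam.sum_rest : ∑ χ ∈ F.rest, F.R χ * F.R χ = F.rho := by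
  have h := F.sumR
  rw [F.split_all fun χ => F.R χ * F.R χ, F.trivR] at h
  simp only [F.memR, Finset.sum_const, Finset.card_univ, Fintype.card_fin, nsmul_eq_mul] at h
  rw [Fam.rho]
  linarith

theorem Fam.rho_nonneg : 0 ≤ F.rho := F.sum_rest ▸ Finset.sum_nonneg fun χ _ => mul_self_nonneg _

theorem Fam.value_rest {χ : Cfsg.IrrCharacter G} (hχ : χ ∈ F.rest) {a : ↥T.A} (ha : a ≠ 1) :
    ‖(χ : G → ℂ) a‖ ^ 2 = ((F.R χ * F.R χ : ℤ) : ℝ) := by
  classical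
  rw [Fam.rest, Finset.mem_sdiff] at hχ
  rw [F.value χ (fun ⟨i, hi⟩ => hχ.2 (Finset.mem_image.2 ⟨i, Finset.mem_univ _, hi⟩)) a ha, norm_neg,
    Complex.norm_intCast, sq_abs, sq]
  push_cast
  ring

theorem cent_eq_A (hc : T.c = 1) {a : ↥T.A} (ha : a ≠ 1) :
    Nat.card ↥(Subgroup.centralizer ({(a : G)} : Set G)) = T.k := by
  have hM : T.M = T.A := by
    refine le_antisymm (fun x hx => T.mem_A hx ?_) T.le
    have hcard : Nat.card ↥T.M = T.k := by rw [T.cardM, hc, one_mul]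
    have := pow_card_eq_one' (G := ↥T.M) (x := ⟨x, hx⟩)
    rw [hcard] at this
    exact congrArg Subtype.val this
  have : Subgroup.centralizer ({(a : G)} : Set G) = T.A := by
    ext g
    rw [Subgroup.mem_centralizer_singleton_iff]
    constructor
    · intro h
      exact hM ▸ T.cent a a.2 (fun e => ha (Subtype.ext e)) g h
    · intro h
      exact T.comm _ (T.le h) _ (T.le a.2)
  rw [this, T.cardA]

theorem Fam.sum_exc (hc : T.c = 1) {a : ↥T.A} (ha : a ≠ 1) :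
    ∑ i, ‖(F.Θ i : G → ℂ) a‖ ^ 2 = (T.k : ℝ) - 1 - F.rho := by
  have h := column_norm (a : G)
  rw [cent_eq_A hc ha, F.split_all fun χ => ‖(χ : G → ℂ) (a : G)‖ ^ 2,
    Finset.sum_congr rfl fun χ hχ => F.value_rest hχ ha, ← Int.cast_sum, F.sum_rest] at h
  simp only [oneIrr, norm_one, one_pow] at h
  linarith

/-- The main estimate. -/
theorem Fam.two_conj (hc : T.c = 1) {d : ℝ} (hd : DegBound G d) {a : ↥T.A} (ha : a ≠ 1) {g : G}
    (hg : ∀ b : ↥T.A, b ≠ 1 → ¬ IsConj (b : G) g) {C W : ℝ}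
    (hC : (Nat.card ↥(Subgroup.centralizer ({g} : Set G)) : ℝ) ≤ C) (hρ : F.rho ≤ 5)
    (hn : 0 < F.n) (hW : (T.k : ℝ) - 1 - F.rho ≤ W)
    (hlt : C * (17 / d ^ 2 + W ^ 2 / (F.n * (F.D : ℝ) ^ 2)) < 1) :
    ∃ u v : G, g = (u * (a : G) * u⁻¹) * (v * (a : G) * v⁻¹) := by
  classical
  refine two_conj_of_sum_lt ?_
  rw [F.split]
  let i₀ : Fin F.n := ⟨0, hn⟩
  have hD : 0 < (F.D : ℝ) := by
    have := (hd.2 (F.Θ i₀) fun e => F.notMem ⟨i₀, e⟩).trans_eq' rfl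
    rw [F.deg, Complex.norm_natCast] at this
    exact lt_of_lt_of_le hd.1 this
  set e := ‖(F.Θ i₀ : G → ℂ) g‖ with he
  have hΘg : ∀ i, ‖(F.Θ i : G → ℂ) g‖ = e := fun i => by rw [he, F.const g hg i i₀]
  have hW0 : 0 ≤ W := le_trans (F.sum_exc hc ha ▸ Finset.sum_nonneg fun i _ => sq_nonneg _) hW
  -- the two parts
  have h1 : ∑ χ ∈ F.rest, ‖(χ : G → ℂ) a‖ ^ 2 * ‖(χ : G → ℂ) g‖ / ‖(χ : G → ℂ) 1‖ ≤
      ∑ χ ∈ F.rest, ((F.R χ * F.R χ : ℤ) : ℝ) / d * ‖(χ : G → ℂ) g‖ := by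
    refine Finset.sum_le_sum fun χ hχ => ?_
    rw [F.value_rest hχ ha, div_mul_eq_mul_div]
    refine div_le_div_of_nonneg_left ?_ hd.1 (hd.2 χ ?_)
    · exact mul_nonneg (Int.cast_nonneg (mul_self_nonneg _)) (norm_nonneg _)
    · exact Finset.ne_of_mem_erase (Finset.mem_sdiff.1 hχ).1
  have h2 : ∑ i, ‖(F.Θ i : G → ℂ) a‖ ^ 2 * ‖(F.Θ i : G → ℂ) g‖ / ‖(F.Θ i : G → ℂ) 1‖ ≤
      ∑ _i : Fin F.n, W / (F.n * (F.D : ℝ)) * e := by
    rw [Finset.sum_const, Finset.card_univ, Fintype.card_fin, nsmul_eq_mul]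
    simp only [hΘg, F.deg, Complex.norm_natCast, ← Finset.sum_mul, ← Finset.sum_div, F.sum_exc hc ha]
    rw [show (F.n : ℝ) * (W / (F.n * (F.D : ℝ)) * e) = W * e / (F.D : ℝ) by field_simp]
    exact div_le_div_of_nonneg_right (mul_le_mul_of_nonneg_right hW (norm_nonneg _)) hD.le
  refine lt_of_le_of_lt (add_le_add h1 h2) ?_
  -- Cauchy-Schwarz
  let u : Cfsg.IrrCharacter G → ℝ := fun χ =>
    if χ ∈ F.rest then ((F.R χ * F.R χ : ℤ) : ℝ) / d
    else if χ ∈ Finset.univ.image F.Θ then W / (F.n * (F.D : ℝ)) else 0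
  have hu1 : ∀ χ ∈ F.rest, u χ = ((F.R χ * F.R χ : ℤ) : ℝ) / d := fun χ h => if_pos h
  have hu2 : ∀ i, u (F.Θ i) = W / (F.n * (F.D : ℝ)) := fun i => by
    have hnr : F.Θ i ∉ F.rest := fun h =>
      (Finset.mem_sdiff.1 h).2 (Finset.mem_image.2 ⟨i, Finset.mem_univ _, rfl⟩)
    simp only [u]
    rw [if_neg hnr, if_pos (Finset.mem_image.2 ⟨i, Finset.mem_univ _, rfl⟩)]
  have hcs := Finset.sum_mul_sq_le_sq_mul_sq (Finset.univ.erase (oneIrr : Cfsg.IrrCharacter G)) u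
    fun χ => ‖(χ : G → ℂ) g‖
  rw [F.split, F.split, Finset.sum_congr rfl fun χ hχ => by rw [hu1 χ hχ],
    Finset.sum_congr (s₁ := (Finset.univ : Finset (Fin F.n))) rfl fun i _ => by rw [hu2 i, hΘg i]] at hcs
  have hU : ∑ χ ∈ F.rest, u χ ^ 2 + ∑ i, u (F.Θ i) ^ 2 ≤ 17 / d ^ 2 + W ^ 2 / (F.n * (F.D : ℝ) ^ 2) := by
    refine add_le_add ?_ (le_of_eq ?_)
    · rw [Finset.sum_congr rfl fun χ hχ => by rw [hu1 χ hχ, div_pow], ← Finset.sum_div]
      refine div_le_div_of_nonneg_right ?_ (sq_nonneg _)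
      have h17 := sum_sq_le_seventeen F.rest F.R (F.sum_rest ▸ hρ)
      have : ∑ χ ∈ F.rest, ((F.R χ * F.R χ : ℤ) : ℝ) ^ 2 =
          ((∑ χ ∈ F.rest, (F.R χ * F.R χ) * (F.R χ * F.R χ) : ℤ) : ℝ) := by
        push_cast
        exact Finset.sum_congr rfl fun χ _ => by ring
      rw [this]
      exact_mod_cast h17
    · simp only [hu2, Finset.sum_const, Finset.card_univ, Fintype.card_fin, nsmul_eq_mul]
      field_simp
  have hV : ∑ χ ∈ Finset.univ.erase (oneIrr : Cfsg.IrrCharacter G), ‖(χ : G → ℂ) g‖ ^ 2 ≤ C := by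
    refine le_trans ?_ hC
    rw [← column_norm]
    exact Finset.sum_le_univ_sum_of_nonneg fun _ => sq_nonneg _
  rw [F.split] at hV
  rw [F.split fun χ : Cfsg.IrrCharacter G => ‖(χ : G → ℂ) g‖ ^ 2] at hcs
  have hprod : (∑ χ ∈ F.rest, u χ ^ 2 + ∑ i, u (F.Θ i) ^ 2) *
      (∑ χ ∈ F.rest, ‖(χ : G → ℂ) g‖ ^ 2 + ∑ i, ‖(F.Θ i : G → ℂ) g‖ ^ 2) < 1 := by
    refine lt_of_le_of_lt (mul_le_mul hU hV (by positivity) (by positivity)) ?_
    rw [mul_comm]; exact hlt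
  have := lt_of_le_of_lt hcs hprod
  exact lt_of_pow_lt_pow_left₀ 2 zero_le_one (by rw [one_pow]; exact this)

end CfsgLib.Chev.ReeCover
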