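import Cfsg.Agent.Lib.Chev.ReeCover.Psi

/-!
# The exceptional characters of a self-centralising cyclic torus with normaliser quotient of order six
-/

set_option autoImplicit false
set_option linter.unusedSectionVars false

namespace CfsgLib.Chev.ReeCover

open CfsgLib.Char
open scoped ComplexConjugate

variable {G : Type*} [Group G] [Fintype G] (T : TorusData G)

noncomputable local instance {H : Subgroup G} : Fintype ↥H := Fintype.ofFinite _

/-- The trivial character. -/
noncomputable def oneIrr : Cfsg.IrrCharacter G := ⟨fun _ => 1, isIrrCharacter_one⟩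

theorem psi_oneIrr {l : Dual T} (hl : l ≠ 1) : psi T (oneIrr : Cfsg.IrrCharacter G) l = -1 := by
  classical
  have h := psi_spec T (oneIrr : Cfsg.IrrCharacter G) l
  have h1 : ∑ a : ↥T.A, (conj (val l a) - 1) = -(T.k : ℂ) := by
    rw [Finset.sum_sub_distrib, ← map_sum, sum_val, if_neg hl, map_zero, zero_sub, Finset.sum_const,
      nsmul_eq_mul, mul_one, Finset.card_univ, ← Nat.card_eq_fintype_card, T.cardA]
  simp only [oneIrr, one_mul] at h
  rw [h1, show -(T.k : ℂ) = (T.k : ℂ) * ((-1 : ℤ) : ℂ) by simp] at h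
  exact_mod_cast (mul_left_cancel₀ (Nat.cast_ne_zero.2 T.k_pos.ne') h).symm

theorem psi_act (χ : Cfsg.IrrCharacter G) (n : ↥(Subgroup.normalizer (T.A : Set G))) (l : Dual T) :
    psi T χ (act T n l) = psi T χ l := by
  have h : (T.k : ℂ) * psi T χ (act T n l) = (T.k : ℂ) * psi T χ l := by
    rw [← psi_spec, ← psi_spec]
    refine Fintype.sum_equiv (nConj T n).toEquiv _ _ fun a => ?_
    show _ = (χ : G → ℂ) (nConj T n a : ↥T.A) * _
    rw [coe_nConj, irr_isClassFunction χ.2]
    rfl
  exact_mod_cast mul_left_cancel₀ (Nat.cast_ne_zero.2 T.k_pos.ne') h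

theorem le_normalizer {x : G} (hx : x ∈ T.M) : x ∈ Subgroup.normalizer (T.A : Set G) := by
  rw [Subgroup.mem_normalizer_iff]
  intro a
  constructor
  · intro ha
    rw [T.comm _ hx _ (T.le ha), mul_inv_cancel_right]
    exact ha
  · intro ha
    have h := T.comm _ hx _ (T.le ha)
    have : a = x * a * x⁻¹ := by
      calc a = x⁻¹ * (x * a * x⁻¹ * x) := by group
        _ = x⁻¹ * (x * (x * a * x⁻¹)) := by rw [← h]
        _ = _ := by group
    rwa [this]

theorem act_mul (n n' : ↥(Subgroup.normalizer (T.A : Set G))) (l : Dual T) :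
    act T (n * n') l = act T n' (act T n l) :=
  MonoidHom.ext fun a => congrArg l (Subtype.ext (by
    show ((n * n' : ↥(Subgroup.normalizer (T.A : Set G))) : G) * a *
      ((n * n' : ↥(Subgroup.normalizer (T.A : Set G))) : G)⁻¹ = (n : G) * ((n' : G) * a * (n' : G)⁻¹) * (n : G)⁻¹
    push_cast
    group))

theorem act_one (l : Dual T) : act T 1 l = l :=
  MonoidHom.ext fun a => congrArg l (Subtype.ext (by
    show ((1 : ↥(Subgroup.normalizer (T.A : Set G))) : G) * a *
      ((1 : ↥(Subgroup.normalizer (T.A : Set G))) : G)⁻¹ = a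
    simp))

/-- Linear characters up to conjugation in the normaliser. -/
def orbitSetoid : Setoid {l : Dual T // l ≠ 1} where
  r l l' := ∃ n, act T n l.1 = l'.1
  iseqv :=
    { refl := fun l => ⟨1, act_one T l.1⟩
      symm := fun {l l'} ⟨n, h⟩ => ⟨n⁻¹, by rw [← h, ← act_mul, mul_inv_cancel, act_one]⟩
      trans := fun ⟨n, h⟩ ⟨n', h'⟩ => ⟨n * n', by rw [act_mul, h, h']⟩ }

open scoped Classical in
theorem card_act_eq (hk : 1 < T.k) {l l' : Dual T} (hl : l ≠ 1) :
    (Finset.univ.filter fun n => act T n l = l').card =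
      if ∃ n, act T n l = l' then T.c * T.k else 0 := by
  split_ifs with h
  · obtain ⟨n₀, hn₀⟩ := h
    rw [← T.cardM, ← Fintype.card_subtype, ← Nat.card_eq_fintype_card]
    have hiff : ∀ n, act T n l = l' ↔ ((n * n₀⁻¹ : ↥(Subgroup.normalizer (T.A : Set G))) : G) ∈ T.M := fun n => by
      rw [← act_eq_self T hk hl, act_mul, ← hn₀]
      constructor
      · intro h; rw [h, ← act_mul, mul_inv_cancel, act_one]
      · intro h
        calc act T n l = act T n₀ (act T n₀⁻¹ (act T n l)) := by
              rw [← act_mul, inv_mul_cancel, act_one]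
          _ = _ := by rw [h]
    refine Nat.card_congr
      { toFun := fun n => ⟨((n.1 * n₀⁻¹ : ↥(Subgroup.normalizer (T.A : Set G))) : G), (hiff n.1).1 n.2⟩
        invFun := fun x => ⟨⟨x.1, le_normalizer T x.2⟩ * n₀, (hiff _).2 (by simp)⟩
        left_inv := fun n => Subtype.ext (Subtype.ext (by simp))
        right_inv := fun x => Subtype.ext (by simp) }
  · exact Finset.card_eq_zero.2 (Finset.filter_eq_empty_iff.2 fun n _ hn => h ⟨n, hn⟩)

open scoped Classical in
theorem gram_eq [Fintype (Cfsg.IrrCharacter G)] (hk : 1 < T.k) (l l' : Dual T) (hl : l ≠ 1) (hl' : l' ≠ 1) :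
    ∑ χ : Cfsg.IrrCharacter G, psi T χ l * psi T χ l' =
      (T.c * T.w : ℤ) + if ∃ n, act T n l' = l then (T.c : ℤ) else 0 := by
  have h := gram T l l' hl hl'
  rw [T.cardN, card_act_eq T hk hl'] at h
  have hk0 : (T.k : ℂ) ≠ 0 := Nat.cast_ne_zero.2 T.k_pos.ne'
  have : (T.k : ℂ) * ((∑ χ : Cfsg.IrrCharacter G, psi T χ l * psi T χ l' : ℤ) : ℂ) =
      (T.k : ℂ) * (((T.c * T.w : ℤ) + if ∃ n, act T n l' = l then (T.c : ℤ) else 0 : ℤ) : ℂ) := by
    push_cast
    rw [h]
    split_ifs <;> push_cast <;> ring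
  exact_mod_cast mul_left_cancel₀ hk0 this

theorem eq_pm {ι : Type*} [Fintype ι] [DecidableEq ι] (d deg : ι → ℤ) (hpos : ∀ i, 0 < deg i)
    (h2 : ∑ i, d i * d i = 2) (h0 : ∑ i, d i * deg i = 0) :
    ∃ P M, P ≠ M ∧ ∀ i, d i = (if i = P then 1 else 0) - if i = M then 1 else 0 := by
  have hle : ∀ i, d i * d i ≤ 2 := fun i =>
    h2 ▸ Finset.single_le_sum (f := fun i => d i * d i) (fun j _ => mul_self_nonneg (d j)) (Finset.mem_univ i)
  have hd : ∀ i, d i = -1 ∨ d i = 0 ∨ d i = 1 := fun i => by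
    have := hle i
    have : -1 ≤ d i ∧ d i ≤ 1 := ⟨by nlinarith, by nlinarith⟩
    omega
  obtain ⟨P, hP⟩ : ∃ P, d P = 1 := by
    by_contra hc
    push Not at hc
    have hall : ∀ i, d i ≤ 0 := fun i => by rcases hd i with h | h | h <;> [omega; omega; exact absurd h (hc i)]
    have := (Finset.sum_eq_zero_iff_of_nonpos fun i _ => mul_nonpos_of_nonpos_of_nonneg (hall i) (hpos i).le).1 h0
    have hz : ∀ i, d i = 0 := fun i => (mul_eq_zero.1 (this i (Finset.mem_univ i))).resolve_right (hpos i).ne'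
    simp [hz] at h2
  obtain ⟨M, hM⟩ : ∃ M, d M = -1 := by
    by_contra hc
    push Not at hc
    have hall : ∀ i, 0 ≤ d i := fun i => by rcases hd i with h | h | h <;> [exact absurd h (hc i); omega; omega]
    have := (Finset.sum_eq_zero_iff_of_nonneg fun i _ => mul_nonneg (hall i) (hpos i).le).1 h0 P (Finset.mem_univ P)
    rw [hP, one_mul] at this
    exact (hpos P).ne' this
  have hPM : P ≠ M := fun e => by rw [e, hM] at hP; omega
  refine ⟨P, M, hPM, fun i => ?_⟩
  by_cases hiP : i = P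
  · subst hiP; simp [hP, hPM]
  by_cases hiM : i = M
  · subst hiM; simp [hM, hiP]
  rw [if_neg hiP, if_neg hiM]
  by_contra hne
  have h3 : ∑ j ∈ ({i, P, M} : Finset ι), d j * d j ≤ 2 :=
    h2 ▸ Finset.sum_le_univ_sum_of_nonneg fun j => mul_self_nonneg _
  rw [Finset.sum_insert (by simp [hiP, hiM]), Finset.sum_pair hPM, hP, hM] at h3
  rcases hd i with h | h | h <;> rw [h] at h3 <;> omega

/-- The exceptional family of `T`. -/
structure Fam [Fintype (Cfsg.IrrCharacter G)] where
  /-- The number of exceptional characters. -/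
  n : ℕ
  /-- The exceptional characters. -/
  Θ : Fin n → Cfsg.IrrCharacter G
  /-- The common part of the vectors `psi`. -/
  R : Cfsg.IrrCharacter G → ℤ
  /-- The sign. -/
  ε : ℤ
  /-- The value of `R` on the exceptional characters. -/
  j : ℤ
  /-- The common degree. -/
  D : ℕ
  inj : Function.Injective Θ
  sign : ε = 1 ∨ ε = -1
  card : 6 * n + 1 = T.k
  deg : ∀ i, (Θ i : G → ℂ) 1 = D
  memR : ∀ i, R (Θ i) = j
  sumR : ∑ χ, R χ * R χ + 2 * ε * j = 6
  trivR : R oneIrr = -1
  notMem : oneIrr ∉ Set.range Θ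
  psiRest : ∀ χ, χ ∉ Set.range Θ → ∀ l : Dual T, l ≠ 1 → psi T χ l = R χ
  distinct : ∀ i i', i ≠ i' → ∃ l l' : Dual T, l ≠ 1 ∧ l' ≠ 1 ∧
    psi T (Θ i) l ≠ psi T (Θ i') l ∧ psi T (Θ i) l ≠ psi T (Θ i) l'
  value : ∀ χ, χ ∉ Set.range Θ → ∀ a : ↥T.A, a ≠ 1 → (χ : G → ℂ) a = -(R χ : ℂ)
  const : ∀ g : G, (∀ a : ↥T.A, a ≠ 1 → ¬ IsConj (a : G) g) → ∀ i i', (Θ i : G → ℂ) g = (Θ i' : G → ℂ) g
  cong : (T.k : ℤ) ∣ (D : ℤ) - (6 * ε - j)

open scoped Classical in
/-- The exceptional family exists. -/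
theorem exists_fam [Fintype (Cfsg.IrrCharacter G)] (hc : T.c = 1) (hw : T.w = 6) (hk : 13 ≤ T.k) :
    Nonempty (Fam T) := by
  have hk1 : 1 < T.k := by omega
  have := finite_dual T
  have := Fintype.ofFinite (Dual T)
  let s := orbitSetoid T
  let O := Quotient s
  let rep : O → Dual T := fun o => o.out.1
  have hrep : ∀ o, rep o ≠ 1 := fun o => o.out.2
  have hrel : ∀ o o', (∃ n, act T n (rep o) = rep o') ↔ o = o' := fun o o' => by
    constructor
    · intro h
      rw [← Quotient.out_eq o, ← Quotient.out_eq o']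
      exact Quotient.sound h
    · rintro rfl
      exact ⟨1, act_one T _⟩
  have hcls : ∀ l : Dual T, l ≠ 1 → ∃ o n, act T n (rep o) = l := fun l hl => by
    have h := Quotient.mk_out (s := s) ⟨l, hl⟩
    obtain ⟨n, hn⟩ := h
    exact ⟨_, n, hn⟩
  -- the sizes of the classes
  have horb : ∀ o, (Finset.univ.filter fun l => ∃ n, act T n (rep o) = l).card = 6 := fun o => by
    have h := Finset.card_eq_sum_card_image (fun n => act T n (rep o)) Finset.univ
    have himg : Finset.univ.image (fun n => act T n (rep o)) =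
        Finset.univ.filter fun l => ∃ n, act T n (rep o) = l := by
      ext l; simp
    rw [himg, Finset.card_univ, ← Nat.card_eq_fintype_card, T.cardN, hc, hw,
      Finset.sum_congr rfl (g := fun _ => 1 * T.k) fun l hl => by
        rw [card_act_eq T hk1 (hrep o), if_pos (Finset.mem_filter.1 hl).2, hc],
      Finset.sum_const, smul_eq_mul, one_mul] at h
    exact (Nat.eq_of_mul_eq_mul_right T.k_pos h).symm
  have hone : ∀ o l, (∃ n, act T n (rep o) = l) → l ≠ 1 := by
    rintro o l ⟨n, rfl⟩ h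
    exact hrep o (MonoidHom.ext fun a => by
      simpa [act] using DFunLike.congr_fun h ((nConj T n).symm a))
  have hpart : Finset.univ.erase (1 : Dual T) =
      Finset.univ.biUnion fun o : O => Finset.univ.filter fun l => ∃ n, act T n (rep o) = l := by
    ext l
    simp only [Finset.mem_erase, Finset.mem_univ, and_true, Finset.mem_biUnion, Finset.mem_filter, true_and]
    exact ⟨fun h => hcls l h, fun ⟨o, h⟩ => hone o l h⟩
  have hdisj : ((Finset.univ : Finset O) : Set O).PairwiseDisjoint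
      fun o => Finset.univ.filter fun l => ∃ n, act T n (rep o) = l := by
    intro o _ o' _ hne
    refine Finset.disjoint_left.2 fun l hl hl' => hne ?_
    obtain ⟨n, hn⟩ := (Finset.mem_filter.1 hl).2
    obtain ⟨n', hn'⟩ := (Finset.mem_filter.1 hl').2
    exact (hrel o o').1 ⟨n * n'⁻¹, by rw [act_mul, hn, ← hn', ← act_mul, mul_inv_cancel, act_one]⟩
  have hcardO : 6 * Fintype.card O + 1 = T.k := by
    have h := congrArg Finset.card hpart
    rw [Finset.card_biUnion hdisj, Finset.sum_congr rfl fun o _ => horb o, Finset.sum_const,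
      smul_eq_mul, Finset.card_erase_of_mem (Finset.mem_univ _), Finset.card_univ, Finset.card_univ,
      ← Nat.card_eq_fintype_card (α := Dual T), card_dual] at h
    omega
  have hgram : ∀ o o', ∑ χ, psi T χ (rep o) * psi T χ (rep o') = 6 + if o = o' then (1 : ℤ) else 0 := fun o o' => by
    rw [gram_eq T hk1 _ _ (hrep o) (hrep o'), hc, hw]
    have : (∃ n, act T n (rep o') = rep o) ↔ o = o' := (hrel o' o).trans eq_comm
    simp [this]
  obtain ⟨o₀, o₁, h01⟩ : ∃ o₀ o₁ : O, o₀ ≠ o₁ := Fintype.exists_pair_of_one_lt_card (by omega)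
  obtain ⟨deg, hdeg⟩ : ∃ deg : Cfsg.IrrCharacter G → ℕ, ∀ χ : Cfsg.IrrCharacter G, (χ : G → ℂ) 1 = deg χ :=
    ⟨fun χ : Cfsg.IrrCharacter G => Cfsg.charDegree (χ : G → ℂ), fun χ => (BlockB.irr_degree_cast χ).symm⟩
  have hdegpos : ∀ χ, 0 < (deg χ : ℤ) := fun χ => by
    have := irr_apply_one_ne_zero χ.2
    rw [hdeg] at this
    exact Int.natCast_pos.2 (Nat.pos_of_ne_zero fun e => this (by simp [e]))
  -- a weighted column off the torus
  have hoff : ∀ (g : G), (∀ a : ↥T.A, a ≠ 1 → ¬ IsConj (a : G) g) → ∀ l : Dual T,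
      ∑ χ : Cfsg.IrrCharacter G, (psi T χ l : ℂ) * conj ((χ : G → ℂ) g) = 0 := by
    intro g hg l
    refine (mul_eq_zero.1 (show (T.k : ℂ) * _ = 0 from ?_)).resolve_left (Nat.cast_ne_zero.2 T.k_pos.ne')
    rw [Finset.mul_sum, Finset.sum_congr rfl fun χ _ => by
      rw [← mul_assoc, ← psi_spec, Finset.sum_mul], Finset.sum_comm]
    refine Finset.sum_eq_zero fun a _ => ?_
    by_cases ha : a = 1
    · subst ha; simp [val]
    · rw [Finset.sum_congr rfl (g := fun χ : Cfsg.IrrCharacter G => (conj (val l a) - 1) *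
        ((χ : G → ℂ) a * conj ((χ : G → ℂ) g))) fun χ _ => by ring, ← Finset.mul_sum,
        column_orthogonality, if_neg (hg a ha), mul_zero]
  have hdot : ∀ l : Dual T, ∑ χ, psi T χ l * (deg χ : ℤ) = 0 := fun l => by
    have h := hoff 1 (fun a ha hc1 => ha (Subtype.ext (by simpa using hc1))) l
    simp only [hdeg, Complex.conj_natCast] at h
    exact_mod_cast h
  -- the differences
  let d : O → Cfsg.IrrCharacter G → ℤ := fun o χ => psi T χ (rep o) - psi T χ (rep o₀)
  have hdd : ∀ o o', o ≠ o₀ → o' ≠ o₀ → ∑ χ, d o χ * d o' χ = 1 + if o = o' then (1 : ℤ) else 0 := by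
    intro o o' ho ho'
    simp only [d, sub_mul, mul_sub, Finset.sum_sub_distrib, hgram]
    simp only [if_neg ho, if_neg ho'.symm, if_true]
    ring
  have hpm : ∀ o, o ≠ o₀ → ∃ P M, P ≠ M ∧
      ∀ χ, d o χ = (if χ = P then 1 else 0) - if χ = M then 1 else 0 := fun o ho =>
    eq_pm (d o) (fun χ => (deg χ : ℤ)) hdegpos (by rw [hdd o o ho ho]; simp)
      (by simp only [d, sub_mul, Finset.sum_sub_distrib, hdot, sub_zero])
  choose P M hPM hd using hpm
  have hPP : ∀ o o' (ho : o ≠ o₀) (ho' : o' ≠ o₀), o ≠ o' →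
      (P o ho = P o' ho' ∧ M o ho ≠ M o' ho') ∨ (P o ho ≠ P o' ho' ∧ M o ho = M o' ho') := by
    intro o o' ho ho' hne
    have h := hdd o o' ho ho'
    rw [if_neg hne, Finset.sum_congr rfl fun χ _ => by rw [hd o ho χ, hd o' ho' χ]] at h
    simp only [mul_sub, sub_mul, Finset.sum_sub_distrib, ite_mul, one_mul, zero_mul,
      Finset.sum_ite_eq', Finset.mem_univ, if_true] at h
    have h3 := hPM o ho
    have h4 := hPM o' ho'
    by_cases e1 : P o ho = P o' ho' <;> by_cases e2 : M o ho = M o' ho'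
    · rw [e1, e2] at h; simp [h4, h4.symm] at h
    · exact Or.inl ⟨e1, e2⟩
    · exact Or.inr ⟨e1, e2⟩
    · rw [if_neg e1, if_neg e2] at h; split_ifs at h <;> omega
  -- all differences share one end
  obtain ⟨ε, hε, Θ₀, Θ', hΘ', hdiff⟩ : ∃ (ε : ℤ) (_ : ε = 1 ∨ ε = -1) (Θ₀ : Cfsg.IrrCharacter G)
      (Θ' : O → Cfsg.IrrCharacter G), Function.Injective (Function.update Θ' o₀ Θ₀) ∧
      ∀ o χ, d o χ = ε * ((if χ = Function.update Θ' o₀ Θ₀ o then 1 else 0) - if χ = Θ₀ then 1 else 0) := by
    have h10 : o₁ ≠ o₀ := h01.symm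
    by_cases hP : ∀ o ho, P o ho = P o₁ h10
    · refine ⟨-1, Or.inr rfl, P o₁ h10, fun o => if ho : o ≠ o₀ then M o ho else P o₁ h10, ?_, fun o χ => ?_⟩
      · intro o o' h
        by_cases ho : o = o₀ <;> by_cases ho' : o' = o₀
        · rw [ho, ho']
        · subst ho; simp [ho'] at h
          exact absurd (h.trans rfl) (hP o' ho' ▸ hPM o' ho')
        · subst ho'; simp [ho] at h
          exact absurd h.symm (hP o ho ▸ hPM o ho)
        · simp [ho, ho'] at h
          by_contra hne
          rcases hPP o o' ho ho' hne with ⟨_, e⟩ | ⟨e, _⟩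
          · exact e h
          · exact e ((hP o ho).trans (hP o' ho').symm)
      · by_cases ho : o = o₀
        · subst ho; simp [d]
        · simp [ho, hd o ho χ, hP o ho]
    · push Not at hP
      obtain ⟨o₂, ho₂, hne₂⟩ := hP
      have h12 : o₁ ≠ o₂ := fun e => hne₂ (by subst e; rfl)
      have hM : ∀ o ho, M o ho = M o₁ h10 := by
        intro o ho
        by_contra hne
        have h1 : o ≠ o₁ := fun e => hne (by subst e; rfl)
        have e1 := ((hPP o o₁ ho h10 h1).resolve_right fun h => hne h.2).1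
        have h2 : o ≠ o₂ := fun e => hne₂ (by subst e; exact e1)
        have e2 := ((hPP o₂ o₁ ho₂ h10 h12.symm).resolve_left fun h => hne₂ h.1).2
        rcases hPP o o₂ ho ho₂ h2 with ⟨e, _⟩ | ⟨_, e⟩
        · exact hne₂ (e.symm.trans e1)
        · exact hne (e.trans e2)
      refine ⟨1, Or.inl rfl, M o₁ h10, fun o => if ho : o ≠ o₀ then P o ho else M o₁ h10, ?_, fun o χ => ?_⟩
      · intro o o' h
        by_cases ho : o = o₀ <;> by_cases ho' : o' = o₀
        · rw [ho, ho']
        · subst ho; simp [ho'] at h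
          exact absurd h.symm (hM o' ho' ▸ hPM o' ho')
        · subst ho'; simp [ho] at h
          exact absurd h (hM o ho ▸ hPM o ho)
        · simp [ho, ho'] at h
          by_contra hne
          rcases hPP o o' ho ho' hne with ⟨_, e⟩ | ⟨e, _⟩
          · exact e ((hM o ho).trans (hM o' ho').symm)
          · exact e h
      · by_cases ho : o = o₀
        · subst ho; simp [d]
        · simp [ho, hd o ho χ, hM o ho]
  -- assemble
  let e := Fintype.equivFin O
  let Θall := Function.update Θ' o₀ Θ₀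
  let R : Cfsg.IrrCharacter G → ℤ := fun χ => psi T χ (rep o₀) - ε * if χ = Θ₀ then 1 else 0
  have hεε : ε * ε = 1 := by rcases hε with rfl | rfl <;> rfl
  have hpsi : ∀ o χ, psi T χ (rep o) = R χ + ε * if χ = Θall o then 1 else 0 := fun o χ => by
    have := hdiff o χ
    simp only [d] at this
    simp only [R, Θall]
    linear_combination this
  have hsum : ∑ χ, R χ * R χ + 2 * ε * R Θ₀ = 6 := by
    have h := hgram o₀ o₀
    rw [if_pos rfl, Finset.sum_congr rfl fun χ _ => by rw [hpsi o₀ χ]] at h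
    simp only [Θall, Function.update_self, mul_add, add_mul, Finset.sum_add_distrib, mul_ite, mul_one,
      mul_zero, ite_mul, zero_mul, Finset.sum_ite_eq', Finset.mem_univ, if_true] at h
    linear_combination h - hεε
  have hmem : ∀ o, R (Θall o) = R Θ₀ := fun o => by
    by_cases ho : o = o₀
    · subst ho; simp [Θall]
    have h := hgram o₀ o
    rw [if_neg (Ne.symm ho), Finset.sum_congr rfl fun χ _ => by rw [hpsi o₀ χ, hpsi o χ]] at h
    have hne : Θall o₀ ≠ Θall o := fun e => ho (hΘ' e).symm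
    simp only [mul_add, add_mul, Finset.sum_add_distrib, mul_ite, mul_one, mul_zero, ite_mul, zero_mul,
      Finset.sum_ite_eq', Finset.mem_univ, if_true, if_neg hne, if_neg hne.symm] at h
    simp only [Θall, Function.update_self] at h
    have : ε * (R (Θall o) - R Θ₀) = 0 := by linear_combination h - hsum
    rcases mul_eq_zero.1 this with h0 | h0
    · rw [h0] at hεε; simp at hεε
    · exact sub_eq_zero.1 h0
  have hvec : ∀ χ l, l ≠ 1 → ∀ o n, act T n (rep o) = l →
      psi T χ l = R χ + ε * if χ = Θall o then 1 else 0 := fun χ l _ o n h => by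
    rw [← h, psi_act, hpsi]
  have hconst : ∀ g : G, (∀ a : ↥T.A, a ≠ 1 → ¬ IsConj (a : G) g) →
      ∀ o, (Θall o : G → ℂ) g = (Θ₀ : G → ℂ) g := by
    intro g hg o
    have h1 := hoff g hg (rep o)
    have h2 := hoff g hg (rep o₀)
    simp only [hpsi, Θall, Function.update_self, Int.cast_add, Int.cast_mul, Int.cast_ite, Int.cast_one,
      Int.cast_zero, add_mul, Finset.sum_add_distrib, mul_ite, mul_one, mul_zero, ite_mul, zero_mul,
      Finset.sum_ite_eq', Finset.mem_univ, if_true] at h1 h2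
    have h3 : (ε : ℂ) * (conj ((Θall o : G → ℂ) g) - conj ((Θ₀ : G → ℂ) g)) = 0 := by
      simp only [Θall]; linear_combination h1 - h2
    rcases mul_eq_zero.1 h3 with h0 | h0
    · rw [Int.cast_eq_zero] at h0; rw [h0] at hεε; simp at hεε
    · exact (starRingEnd ℂ).injective (sub_eq_zero.1 h0)
  have hdeg₀ : ∀ o, (Θall o : G → ℂ) 1 = deg Θ₀ := fun o => by
    rw [hconst 1 (fun a ha hc1 => ha (Subtype.ext (by simpa using hc1))) o, hdeg]
  -- the trivial character is not exceptional
  have hne : ∀ o, oneIrr ≠ Θall o := fun o h => by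
    obtain ⟨o', ho'⟩ : ∃ o', o' ≠ o := by
      by_cases h' : o = o₀
      · exact ⟨o₁, fun e => h01 (by rw [e, h'])⟩
      · exact ⟨o₀, fun e => h' e.symm⟩
    have h1 := hpsi o oneIrr
    have h2 := hpsi o' oneIrr
    rw [psi_oneIrr T (hrep _), if_pos h] at h1
    rw [psi_oneIrr T (hrep _), if_neg (fun e => ho' (hΘ' (e.symm.trans h)))] at h2
    rw [mul_one] at h1
    rcases hε with rfl | rfl <;> omega
  refine ⟨{ n := Fintype.card O, Θ := fun i => Θall (e.symm i), R := R, ε := ε, j := R Θ₀, D := deg Θ₀,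
            inj := hΘ'.comp e.symm.injective, sign := hε, card := hcardO,
            deg := fun i => hdeg₀ _, memR := fun i => hmem _, sumR := hsum, trivR := ?_, notMem := fun ⟨i, hi⟩ => hne _ hi.symm, value := ?_,
            const := fun g hg i i' => by rw [hconst g hg, hconst g hg],
            psiRest := fun χ hχ l hl => by
              obtain ⟨o, n, hn⟩ := hcls l hl
              rw [hvec χ l hl o n hn, if_neg (fun h => hχ ⟨e o, by simp [h]⟩)]
              simp,
            distinct := ?_, cong := ?_ }⟩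
  · have h := hpsi o₀ oneIrr
    rw [psi_oneIrr T (hrep _), if_neg (hne _)] at h
    linarith
  · intro i i' hii
    have hne' : Θall (e.symm i) ≠ Θall (e.symm i') := fun h => hii (e.symm.injective (hΘ' h))
    refine ⟨rep (e.symm i), rep (e.symm i'), hrep _, hrep _, ?_, ?_⟩ <;>
      simp only [hpsi, hmem, if_pos, if_neg hne', if_neg hne'.symm] <;>
      rcases hε with rfl | rfl <;> omega
  · intro χ hχ a ha
    rw [apply_eq_sum T χ ha, ← Finset.add_sum_erase _ _ (Finset.mem_univ (1 : Dual T)), psi_one,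
      Int.cast_zero, zero_mul, zero_add]
    rw [Finset.sum_congr rfl (g := fun l => (R χ : ℂ) * val l a) fun l hl => by
      obtain ⟨o, n, hn⟩ := hcls l (Finset.ne_of_mem_erase hl)
      rw [hvec χ l (Finset.ne_of_mem_erase hl) o n hn, if_neg (fun h => hχ ⟨e o, by simp [h]⟩)]
      simp]
    rw [← Finset.mul_sum, Finset.sum_erase_eq_sub (Finset.mem_univ _), sum_dual, if_neg ha, one_val]
    ring
  · have h := sum_mult T Θ₀
    rw [hdeg] at h
    have h' : (deg Θ₀ : ℤ) = ∑ l : Dual T, mult T Θ₀ l := by exact_mod_cast h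
    have h2 : ∑ l : Dual T, psi T Θ₀ l = ((T.k : ℤ) - 1) * R Θ₀ + 6 * ε := by
      rw [← Finset.add_sum_erase _ _ (Finset.mem_univ (1 : Dual T)), psi_one, zero_add, hpart,
        Finset.sum_biUnion hdisj,
        Finset.sum_congr rfl (g := fun o => 6 * R Θ₀ + 6 * (ε * if Θ₀ = Θall o then 1 else 0)) fun o _ => by
          rw [Finset.sum_congr rfl fun l hl => hvec Θ₀ l (hone o l (Finset.mem_filter.1 hl).2) o _
            (Finset.mem_filter.1 hl).2.choose_spec, Finset.sum_const, horb, nsmul_eq_mul]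
          push_cast; ring]
      rw [Finset.sum_add_distrib, Finset.sum_const, ← Finset.mul_sum, ← Finset.mul_sum, Finset.card_univ,
        Finset.sum_eq_single o₀ (fun o _ ho => if_neg fun e => ho (hΘ' (by simpa [Θall] using e.symm)))
          (fun h => absurd (Finset.mem_univ _) h)]
      simp only [Θall, Function.update_self, if_true, mul_one, nsmul_eq_mul, ← hcardO]
      push_cast
      ring
    refine ⟨mult T Θ₀ 1 + R Θ₀, ?_⟩
    have h3 : ∑ l : Dual T, psi T Θ₀ l = (deg Θ₀ : ℤ) - (T.k : ℤ) * mult T Θ₀ 1 := by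
      simp only [psi, Finset.sum_sub_distrib, ← h', Finset.sum_const, nsmul_eq_mul, Finset.card_univ,
        ← Nat.card_eq_fintype_card, card_dual]
    linarith

end CfsgLib.Chev.ReeCover
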