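import Cfsg.Agent.Lib.Chev.ReeCover.Family
import Cfsg.Agent.Lib.KnownB.SzConjCover

/-!
# Bounds on the Frobenius sum deciding products of two conjugates
-/

set_option autoImplicit false
set_option linter.unusedSectionVars false

namespace CfsgLib.Chev.ReeCover

open CfsgLib.Char
open CfsgLib.KnownB.SzCh (frobSum frobSum_conj exists_two_conj)
open scoped ComplexConjugate

variable {G : Type*} [Group G] [Fintype G]

noncomputable local instance {H : Subgroup G} : Fintype ↥H := Fintype.ofFinite _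

variable [Fintype (Cfsg.IrrCharacter G)]

/-- The degree bound for the non-trivial irreducible characters. -/
def DegBound (G : Type*) [Group G] (d : ℝ) : Prop :=
  0 < d ∧ ∀ χ : Cfsg.IrrCharacter G, χ ≠ oneIrr → d ≤ ‖(χ : G → ℂ) 1‖

theorem column_norm (g : G) :
    ∑ χ : Cfsg.IrrCharacter G, ‖(χ : G → ℂ) g‖ ^ 2 =
      (Nat.card ↥(Subgroup.centralizer ({g} : Set G)) : ℝ) := by
  classical
  have h := column_orthogonality g g
  rw [if_pos (IsConj.refl g)] at h
  simp only [Complex.mul_conj, Complex.normSq_eq_norm_sq] at h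
  exact_mod_cast h

open scoped Classical in
theorem two_conj_of_sum_lt {x g : G}
    (h : ∑ χ ∈ Finset.univ.erase (oneIrr : Cfsg.IrrCharacter G),
      ‖(χ : G → ℂ) x‖ ^ 2 * ‖(χ : G → ℂ) g‖ / ‖(χ : G → ℂ) 1‖ < 1) :
    ∃ u v : G, g = (u * x * u⁻¹) * (v * x * v⁻¹) := by
  refine exists_two_conj fun h0 => ?_
  rw [frobSum, ← Finset.add_sum_erase _ _ (Finset.mem_univ (oneIrr : Cfsg.IrrCharacter G))] at h0
  have h1 : ((oneIrr : Cfsg.IrrCharacter G) : G → ℂ) x ^ 2 *
      conj (((oneIrr : Cfsg.IrrCharacter G) : G → ℂ) g) / ((oneIrr : Cfsg.IrrCharacter G) : G → ℂ) 1 = 1 := by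
    simp [oneIrr]
  rw [h1, add_eq_zero_iff_eq_neg'] at h0
  have h2 : ‖(-1 : ℂ)‖ < 1 := by
    rw [← h0]
    refine lt_of_le_of_lt (norm_sum_le _ _) (lt_of_le_of_lt (le_of_eq ?_) h)
    refine Finset.sum_congr rfl fun χ _ => ?_
    rw [norm_div, norm_mul, norm_pow, Complex.norm_conj]
  simp at h2

theorem norm_apply_le_sqrt (χ : Cfsg.IrrCharacter G) (g : G) :
    ‖(χ : G → ℂ) g‖ ≤ Real.sqrt (Nat.card ↥(Subgroup.centralizer ({g} : Set G))) := by
  refine Real.le_sqrt_of_sq_le ?_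
  rw [← column_norm]
  exact Finset.single_le_sum (f := fun χ : Cfsg.IrrCharacter G => ‖(χ : G → ℂ) g‖ ^ 2)
    (fun _ _ => sq_nonneg _) (Finset.mem_univ χ)

/-- Small centralisers. -/
theorem two_conj_small {d : ℝ} (hd : DegBound G d) {x g : G} {c C : ℝ}
    (hx : (Nat.card ↥(Subgroup.centralizer ({x} : Set G)) : ℝ) ≤ c)
    (hg : (Nat.card ↥(Subgroup.centralizer ({g} : Set G)) : ℝ) ≤ C) (hlt : c ^ 2 * C < d ^ 2) :
    ∃ u v : G, g = (u * x * u⁻¹) * (v * x * v⁻¹) := by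
  classical
  refine two_conj_of_sum_lt ?_
  have hc0 : 0 ≤ c := le_trans (Nat.cast_nonneg _) hx
  have hC0 : 0 ≤ C := le_trans (Nat.cast_nonneg _) hg
  calc ∑ χ ∈ Finset.univ.erase (oneIrr : Cfsg.IrrCharacter G),
        ‖(χ : G → ℂ) x‖ ^ 2 * ‖(χ : G → ℂ) g‖ / ‖(χ : G → ℂ) 1‖
      ≤ ∑ χ ∈ Finset.univ.erase (oneIrr : Cfsg.IrrCharacter G),
        ‖(χ : G → ℂ) x‖ ^ 2 * (Real.sqrt C / d) := by
        refine Finset.sum_le_sum fun χ hχ => ?_
        rw [mul_div_assoc]
        refine mul_le_mul_of_nonneg_left ?_ (sq_nonneg _)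
        exact div_le_div₀ (Real.sqrt_nonneg _) ((norm_apply_le_sqrt χ g).trans (Real.sqrt_le_sqrt hg))
          hd.1 (hd.2 χ (Finset.ne_of_mem_erase hχ))
    _ ≤ c * (Real.sqrt C / d) := by
        rw [← Finset.sum_mul]
        refine mul_le_mul_of_nonneg_right (le_trans ?_ hx) (div_nonneg (Real.sqrt_nonneg _) hd.1.le)
        rw [← column_norm]
        exact Finset.sum_le_univ_sum_of_nonneg fun _ => sq_nonneg _
    _ < 1 := by
        rw [← mul_div_assoc, div_lt_one hd.1]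
        refine lt_of_pow_lt_pow_left₀ 2 hd.1.le ?_
        rw [mul_pow, Real.sq_sqrt hC0]
        exact hlt

theorem sum_sq_le_seventeen {ι : Type*} (s : Finset ι) (a : ι → ℤ) (h : ∑ i ∈ s, a i * a i ≤ 5) :
    ∑ i ∈ s, (a i * a i) * (a i * a i) ≤ 17 := by
  classical
  have hle : ∀ i ∈ s, a i * a i ≤ 5 := fun i hi =>
    (Finset.single_le_sum (f := fun i => a i * a i) (fun j _ => mul_self_nonneg _) hi).trans h
  have hval : ∀ i ∈ s, a i * a i = 0 ∨ a i * a i = 1 ∨ a i * a i = 4 := fun i hi => by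
    have := hle i hi
    have h2 : -2 ≤ a i ∧ a i ≤ 2 := ⟨by nlinarith, by nlinarith⟩
    obtain ⟨h3, h4⟩ := h2
    interval_cases (a i) <;> simp
  by_cases hbig : ∃ i ∈ s, a i * a i = 4
  · obtain ⟨i, hi, hi4⟩ := hbig
    rw [← Finset.add_sum_erase _ _ hi, hi4] at h ⊢
    have hrest : ∀ j ∈ s.erase i, (a j * a j) * (a j * a j) ≤ a j * a j := fun j hj => by
      have h1 := Finset.single_le_sum (f := fun i => a i * a i) (fun j _ => mul_self_nonneg _) hj
      rcases hval j (Finset.mem_of_mem_erase hj) with e | e | e <;> rw [e] at h1 ⊢ <;> omega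
    have := Finset.sum_le_sum hrest
    omega
  · have hrest : ∀ j ∈ s, (a j * a j) * (a j * a j) ≤ a j * a j := fun j hj => by
      rcases hval j hj with e | e | e
      · rw [e]; norm_num
      · rw [e]; norm_num
      · exact absurd ⟨j, hj, e⟩ hbig
    have := Finset.sum_le_sum hrest
    omega

end CfsgLib.Chev.ReeCover
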