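import Mathlib
import Cfsg.Agent.Lib.Chev.ReeCounts
import Cfsg.Agent.Lib.Chev.ReeTori
import Cfsg.Agent.Lib.Chev.ReeLayers

/-!
Centralisers in ²G₂(q): all are small, apart from those of the elements of order two and three.
-/

set_option autoImplicit false
set_option maxHeartbeats 800000
set_option maxRecDepth 100000
set_option linter.unusedSectionVars false

namespace CfsgLib.Chev.ReeCover

open Cfsg.Lie CfsgLib.Chev

section General

variable {G : Type*} [Group G]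

lemma card_centralizer_conj (s x : G) :
    Nat.card ↥(Subgroup.centralizer {s * x * s⁻¹}) = Nat.card ↥(Subgroup.centralizer {x}) := by
  have e : (Subgroup.centralizer {x}).map (MulAut.conj s).toMonoidHom =
      Subgroup.centralizer {s * x * s⁻¹} := by
    ext y
    constructor
    · rintro ⟨z, hz, rfl⟩
      have hz' := Subgroup.mem_centralizer_singleton_iff.1 hz
      rw [Subgroup.mem_centralizer_singleton_iff]
      show s * z * s⁻¹ * (s * x * s⁻¹) = s * x * s⁻¹ * (s * z * s⁻¹)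
      rw [show s * z * s⁻¹ * (s * x * s⁻¹) = s * (z * x) * s⁻¹ by group, hz']
      group
    · intro hy
      have hy' := Subgroup.mem_centralizer_singleton_iff.1 hy
      refine ⟨s⁻¹ * y * s, Subgroup.mem_centralizer_singleton_iff.2 ?_, ?_⟩
      · rw [show s⁻¹ * y * s * x = s⁻¹ * (y * (s * x * s⁻¹)) * s by group, hy']
        group
      · show s * (s⁻¹ * y * s) * s⁻¹ = y
        group
  rw [← e, Subgroup.card_map_of_injective (MulAut.conj s).injective]

lemma centralizer_le_pow (g : G) (n : ℕ) :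
    Subgroup.centralizer {g} ≤ Subgroup.centralizer {g ^ n} := by
  intro y hy
  rw [Subgroup.mem_centralizer_singleton_iff] at hy ⊢
  exact (Commute.pow_right hy n).eq

/-- A subgroup covered by a map from a finite type. -/
lemma card_le_of_cover {α : Type*} [Finite α] {H : Subgroup G} (f : α → G)
    (h : ∀ x ∈ H, ∃ a, f a = x) : Nat.card ↥H ≤ Nat.card α := by
  choose g hg using h
  refine Nat.card_le_card_of_injective (fun x : ↥H => g x.1 x.2) fun x y hxy => Subtype.ext ?_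
  rw [← hg x.1 x.2, ← hg y.1 y.2]
  exact congrArg f hxy

variable [Finite G]

lemma card_centralizer_le_torus (T : TorusData G) {y s : G} (hy : s * y * s⁻¹ ∈ T.A) (hy1 : y ≠ 1) :
    Nat.card ↥(Subgroup.centralizer {y}) ≤ T.c * T.k := by
  rw [← card_centralizer_conj s y, ← T.cardM]
  refine Subgroup.card_le_of_le fun g hg => T.cent _ hy ?_ g (Subgroup.mem_centralizer_singleton_iff.1 hg)
  rw [Ne, conj_eq_one_iff]
  exact hy1

/-- An element with a prime divisor of the order in a torus. -/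
lemma torus_of_prime (T : TorusData G) {x : G} {l : ℕ} (hl : l.Prime) (hlx : l ∣ orderOf x)
    (hlk : l ∣ T.k) :
    Nat.card ↥(Subgroup.centralizer {x}) ≤ T.c * T.k ∧ ∃ s, s * x * s⁻¹ ∈ T.M := by
  have hy : orderOf (x ^ (orderOf x / l)) = l := orderOf_pow_orderOf_div (orderOf_pos x).ne' hlx
  set y := x ^ (orderOf x / l) with hydef
  have hy1 : y ≠ 1 := fun h => by
    rw [h, orderOf_one] at hy
    exact hl.one_lt.ne hy
  obtain ⟨s, hs⟩ := T.exists_conj (g := y) (orderOf_dvd_iff_pow_eq_one.1 (hy.symm ▸ hlk))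
  refine ⟨le_trans (Subgroup.card_le_of_le (centralizer_le_pow x _))
    (card_centralizer_le_torus T hs hy1), s, T.cent _ hs ?_ _ ?_⟩
  · rw [Ne, conj_eq_one_iff]
    exact hy1
  · have hc : Commute x y := (Commute.refl x).pow_right _
    rw [show s * x * s⁻¹ * (s * y * s⁻¹) = s * (x * y) * s⁻¹ by group, hc.eq]
    group

end General

section Arith

/-- A number divisible by no prime above three and neither by three nor by four. -/
lemma le_two_of_primes {d n : ℕ} (hd : d ∣ n) (h4 : ¬ 4 ∣ n) (h3 : ¬ 3 ∣ n)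
    (hp : ∀ l : ℕ, l.Prime → 5 ≤ l → ¬ l ∣ d) : d ∣ 2 := by
  have hd0 : d ≠ 0 := by
    rintro rfl
    exact h3 ((dvd_zero 3).trans hd)
  have h : ∀ {l : ℕ}, l.Prime → l ∣ d → l = 2 := by
    intro l hl hld
    have := hl.two_le
    have h3' : l ≠ 3 := by rintro rfl; exact h3 (hld.trans hd)
    have h4' : l ≠ 4 := by rintro rfl; norm_num at hl
    have := hp l hl
    by_contra h2
    exact this (by omega) hld
  obtain ⟨a, ha⟩ : ∃ a, d = 2 ^ a := ⟨_, Nat.eq_prime_pow_of_unique_prime_dvd hd0 h⟩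
  rw [ha] at hd ⊢
  by_cases ha1 : a ≤ 1
  · exact pow_dvd_pow 2 ha1 |>.trans (by norm_num)
  · exact absurd (((pow_dvd_pow 2 (show 2 ≤ a by omega)).trans hd)) h4

end Arith

variable {K : Type*} [Field K] [Fintype K] {m : ℕ} (S : SetupG2 K m)
include S

lemma q_res (hm : 1 ≤ m) : 3 ^ (2 * m + 1) % 8 = 3 ∧ 3 ^ (2 * m + 1) % 3 = 0 ∧
    3 ^ (m + 1) % 3 = 0 ∧ 3 ^ (m + 1) % 2 = 1 ∧ 27 ≤ 3 ^ (2 * m + 1) ∧
    3 * 3 ^ (m + 1) ≤ 3 ^ (2 * m + 1) := by
  obtain ⟨h27, -, -, -, -, h3r⟩ := S.arith hm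
  exact ⟨S.q_mod, by simp [Nat.pow_mod], by simp [Nat.pow_mod], by simp [Nat.pow_mod], h27,
    by simpa using h3r⟩

/-- An element whose order has a prime divisor above three lies in one of the tori. -/
theorem exists_torus_of_prime (hm : 1 ≤ m) {l : ℕ} (hl : l.Prime) (hl5 : 5 ≤ l)
    (hlG : l ∣ Nat.card ↥(twistedG2 K (3 ^ m))) :
    ∃ T : TorusData ↥(twistedG2 K (3 ^ m)),
      l ∣ T.k ∧ T.c * T.k ≤ 3 ^ (2 * m + 1) + 3 ^ (m + 1) + 1 := by
  obtain ⟨h8, -, -, -, h27, h3r⟩ := q_res S hm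
  obtain ⟨hprod, -, -⟩ := S.singer_orders hm (N := 3 ^ (2 * m + 1) - 3 ^ (m + 1) + 1)
    (N' := 3 ^ (2 * m + 1) + 3 ^ (m + 1) + 1) (Or.inl ⟨rfl, rfl⟩)
  rw [S.card_factor] at hlG
  obtain ⟨T1, hk1, hc1, -, -⟩ := S.torusData_split hm
  obtain ⟨T2, hk2, hc2, -, -, -⟩ := S.torusData_klein hm
  obtain ⟨T3, hk3, hc3, -⟩ := S.torusData_singer hm (N := 3 ^ (2 * m + 1) - 3 ^ (m + 1) + 1) (Or.inl rfl)
  obtain ⟨T4, hk4, hc4, -⟩ := S.torusData_singer hm (N := 3 ^ (2 * m + 1) + 3 ^ (m + 1) + 1) (Or.inr rfl)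
  set q := 3 ^ (2 * m + 1) with hq
  set r := 3 ^ (m + 1) with hr
  have hlq : ¬ l ∣ q := fun h => by
    have := (Nat.prime_dvd_prime_iff_eq hl Nat.prime_three).1 (hl.dvd_of_dvd_pow h)
    omega
  have hl2 : ¬ l ∣ 2 := fun h => by have := Nat.le_of_dvd two_pos h; omega
  rcases hl.dvd_mul.1 hlG with h | h
  · rcases hl.dvd_mul.1 h with h | h
    · rcases hl.dvd_mul.1 h with h | h
      · exact absurd (hl.dvd_of_dvd_pow h) hlq
      · refine ⟨T1, ?_, by rw [hk1, hc1]; omega⟩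
        rw [hk1]
        have e : q - 1 = 2 * ((q - 1) / 2) := by omega
        rw [e] at h
        exact (hl.dvd_mul.1 h).resolve_left hl2
    · refine ⟨T2, ?_, by rw [hk2, hc2]; omega⟩
      rw [hk2]
      have e : q + 1 = 2 * (2 * ((q + 1) / 4)) := by omega
      rw [e] at h
      exact (hl.dvd_mul.1 ((hl.dvd_mul.1 h).resolve_left hl2)).resolve_left hl2
  · rw [← hprod] at h
    rcases hl.dvd_mul.1 h with h | h
    · exact ⟨T3, hk3 ▸ h, by rw [hk3, hc3]; omega⟩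
    · exact ⟨T4, hk4 ▸ h, by rw [hk4, hc4]; omega⟩

/-- A small centraliser, or an order built from two and three. -/
theorem small_or_order (hm : 1 ≤ m) {g : ↥(twistedG2 K (3 ^ m))} (hg : g ≠ 1) :
    Nat.card ↥(Subgroup.centralizer {g}) ≤ 3 * 3 ^ (2 * m + 1) ∨
      orderOf g = 2 ∨ orderOf g = 3 ∨ orderOf g = 6 ∨ orderOf g = 9 := by
  obtain ⟨h8, hq3, hr3, hr2, h27, h3r⟩ := q_res S hm
  by_cases hex : ∃ l, l.Prime ∧ 5 ≤ l ∧ l ∣ orderOf g
  · obtain ⟨l, hl, hl5, hlg⟩ := hex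
    obtain ⟨T, hlk, hle⟩ := exists_torus_of_prime S hm hl hl5 (hlg.trans (orderOf_dvd_natCard g))
    refine Or.inl (((torus_of_prime T hl hlg hlk).1.trans hle).trans ?_)
    omega
  right
  push Not at hex
  have h1 : orderOf g ≠ 1 := fun h => hg (orderOf_eq_one_iff.1 h)
  have hp : ∀ l : ℕ, l.Prime → 5 ≤ l → ¬ l ∣ orderOf g := fun l h1 h2 => hex l h1 h2
  have h2 : ∀ {d : ℕ}, d ∣ 2 → d ≠ 1 → d = 2 := fun {d} hd hd1 =>
    ((Nat.dvd_prime Nat.prime_two).1 hd).resolve_left hd1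
  rcases S.orderOf_cases hm g with h | h | h | h | h | h
  · have hle := Nat.le_of_dvd (by norm_num) h
    interval_cases hd : orderOf g <;> omega
  · have hle := Nat.le_of_dvd (by norm_num) h
    interval_cases hd : orderOf g <;> omega
  · exact Or.inl (h2 (le_two_of_primes h (by omega) (by omega) hp) h1)
  · exact Or.inl (h2 (le_two_of_primes h (by omega) (by omega) hp) h1)
  · exact Or.inl (h2 (le_two_of_primes h (by omega) (by omega) hp) h1)
  · exact Or.inl (h2 (le_two_of_primes h (by omega) (by omega) hp) h1)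

/-- The 3-elements are conjugate into `U¹`. -/
theorem exists_conj_pU {g : ↥(twistedG2 K (3 ^ m))} {n : ℕ} (hg : orderOf g = 3 ^ n) :
    ∃ s, s * g * s⁻¹ ∈ S.pU := by
  have := Fact.mk Nat.prime_three
  obtain ⟨Q, hQ⟩ := (IsPGroup.of_card (p := 3) (n := n) (by rw [Nat.card_zpowers, hg]) :
    IsPGroup 3 ↥(Subgroup.zpowers g)).exists_le_sylow
  obtain ⟨P₀, hP₀⟩ := S.exists_sylow
  obtain ⟨a, ha⟩ := MulAction.exists_smul_eq ↥(twistedG2 K (3 ^ m)) Q P₀
  refine ⟨a, ?_⟩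
  rw [← hP₀, ← ha, Sylow.coe_subgroup_smul]
  exact ⟨g, hQ (Subgroup.mem_zpowers g), rfl⟩

/-- Coordinates in the Borel subgroup. -/
theorem exists_pB_coords {x : ↥(twistedG2 K (3 ^ m))} (hx : x ∈ S.pB) :
    ∃ (t u v : K) (b : Kˣ), x = S.wU t u v * S.tauG b := by
  obtain ⟨y, hy, d, hd, he⟩ := S.borel_decomp (S.mem_pB.1 hx)
  obtain ⟨b, rfl⟩ := S.tauHom_range.symm ▸ hd
  obtain ⟨t, u, v, rfl⟩ := S.mem_pos hy
  exact ⟨t, u, v, b, Subtype.ext he⟩

/-- Conjugation of the lower layers. -/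
theorem conj_low (t u v : K) (b : Kˣ) (u₀ v₀ : K) :
    S.wU t u v * S.tauG b * S.wU 0 u₀ v₀ * (S.wU t u v * S.tauG b)⁻¹ =
      S.wU 0 (((b ^ S.tauExp 10 : Kˣ) : K) * u₀)
        (t * (((b ^ S.tauExp 10 : Kˣ) : K) * u₀) + (b : K) * v₀) := by
  have h := S.tau_conj_wU b 0 u₀ v₀
  rw [mul_zero, show S.tauExp 11 = 1 from by simp [SetupG2.tauExp], zpow_one] at h
  rw [show S.wU t u v * S.tauG b * S.wU 0 u₀ v₀ * (S.wU t u v * S.tauG b)⁻¹ =
    S.wU t u v * (S.tauG b * S.wU 0 u₀ v₀ * (S.tauG b)⁻¹) * (S.wU t u v)⁻¹ by group, h,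
    ← mul_right_cancel_iff (a := (S.wU 0 (((b ^ S.tauExp 10 : Kˣ) : K) * u₀) ((b : K) * v₀))⁻¹),
    S.wU_comm_mid, eq_mul_inv_iff_mul_eq, S.wU_low_mul, zero_add]

lemma units_sq_one {b : Kˣ} (hb : b * b = 1) : b = 1 ∨ b = -1 := by
  rcases sq_eq_one_iff.1 (show (b : K) ^ 2 = 1 by rw [sq, ← Units.val_mul, hb]; rfl) with h | h
  · exact Or.inl (Units.ext h)
  · exact Or.inr (Units.ext (by simpa using h))

lemma tauExp_six_odd : Odd (S.tauExp 6) := by
  simp only [SetupG2.tauExp, if_true]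
  exact Even.sub_odd (by decide) (Odd.mul (by decide) (Odd.pow (by decide)))

lemma tau_ten_of_sq {b : Kˣ} (hb : b * b = 1) : b ^ S.tauExp 10 = 1 := by
  obtain ⟨k, hk⟩ : Even (S.tauExp 10) := by
    have e : S.tauExp 10 = 3 * 3 ^ m - 1 := by simp [SetupG2.tauExp]
    rw [e]
    exact Odd.sub_odd (Odd.mul (by decide) (Odd.pow (by decide))) odd_one
  rw [hk, zpow_add, ← mul_zpow, hb, one_zpow]

/-- The centraliser of an element of order three, `u ≠ 0`. -/
theorem cent_low_coords {u₀ v₀ : K} (h0 : u₀ ≠ 0) {x : ↥(twistedG2 K (3 ^ m))}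
    (hx : x * S.wU 0 u₀ v₀ = S.wU 0 u₀ v₀ * x) :
    ∃ (u v : K) (b : Kˣ), b * b = 1 ∧ x = S.wU ((v₀ - (b : K) * v₀) / u₀) u v * S.tauG b := by
  have hz : S.wU 0 u₀ v₀ ≠ 1 := fun h => h0 (S.wU_inj (h.trans S.wU_zero.symm)).2.1
  obtain ⟨t, u, v, b, rfl⟩ := exists_pB_coords S (S.mem_pB_of_commute (S.wU_mem _ _ _) hz hx)
  have h := conj_low S t u v b u₀ v₀
  rw [hx, mul_inv_cancel_right] at h
  obtain ⟨-, h1, h2⟩ := S.wU_inj h
  have hb : b ^ S.tauExp 10 = 1 := Units.ext (by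
    rw [Units.val_one]; exact (mul_eq_right₀ h0).1 h1.symm)
  have hb2 := S.sq_eq_one_of_tauExp (by decide) hb
  rw [hb, Units.val_one, one_mul] at h2
  refine ⟨u, v, b, hb2, ?_⟩
  rw [show t = (v₀ - (b : K) * v₀) / u₀ by rw [eq_div_iff h0]; linear_combination -h2]

/-- The centraliser of a central element of `U¹`. -/
theorem cent_bot {v₀ : K} (h0 : v₀ ≠ 0) {x : ↥(twistedG2 K (3 ^ m))}
    (hx : x * S.wU 0 0 v₀ = S.wU 0 0 v₀ * x) : x ∈ S.pU := by
  have hz : S.wU 0 0 v₀ ≠ 1 := fun h => h0 (S.wU_inj (h.trans S.wU_zero.symm)).2.2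
  obtain ⟨t, u, v, b, rfl⟩ := exists_pB_coords S (S.mem_pB_of_commute (S.wU_mem _ _ _) hz hx)
  have h := conj_low S t u v b 0 v₀
  rw [hx, mul_inv_cancel_right, mul_zero, mul_zero, zero_add] at h
  obtain ⟨-, -, h2⟩ := S.wU_inj h
  rw [show b = 1 from Units.ext ((mul_eq_right₀ h0).1 h2.symm), map_one, mul_one]
  exact S.wU_mem t u v

/-- Orders three. -/
theorem card_cent_three {g : ↥(twistedG2 K (3 ^ m))} (hg : orderOf g = 3) :
    Nat.card ↥(Subgroup.centralizer {g}) ≤ (3 ^ (2 * m + 1)) ^ 3 := by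
  classical
  obtain ⟨s, hs⟩ := exists_conj_pU S (n := 1) (by rw [hg, pow_one])
  rw [← card_centralizer_conj s g]
  obtain ⟨t, u, v, he⟩ := S.exists_wU hs
  have hord : orderOf (s * g * s⁻¹) = 3 := by
    rw [show s * g * s⁻¹ = MulAut.conj s g from rfl, MulEquiv.orderOf_eq, hg]
  have ht : t = 0 := by
    have h3 : (s * g * s⁻¹) ^ 3 = 1 := orderOf_dvd_iff_pow_eq_one.1 hord.dvd
    rw [he] at h3
    exact (S.word_cube_iff t u v).1 (congrArg Subtype.val h3)
  subst ht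
  rw [he] at hord ⊢
  by_cases hu : u = 0
  · subst hu
    have hv : v ≠ 0 := by
      rintro rfl
      rw [S.wU_zero, orderOf_one] at hord
      omega
    rw [← S.card_pU]
    exact Subgroup.card_le_of_le fun x hx =>
      cent_bot S hv (Subgroup.mem_centralizer_singleton_iff.1 hx)
  refine (card_le_of_cover (α := K × K × Fin 2) (fun p =>
    S.wU ((v - ((if p.2.2 = 0 then 1 else -1 : Kˣ) : K) * v) / u) p.1 p.2.1 *
      S.tauG (if p.2.2 = 0 then 1 else -1)) fun x hx => ?_).trans ?_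
  · obtain ⟨a, c, b, hb, rfl⟩ := cent_low_coords S hu (Subgroup.mem_centralizer_singleton_iff.1 hx)
    rcases units_sq_one S hb with rfl | rfl
    · exact ⟨(a, c, 0), by simp⟩
    · exact ⟨(a, c, 1), by simp⟩
  · rw [Nat.card_prod, Nat.card_prod, Nat.card_eq_fintype_card (α := K), S.card, Nat.card_eq_fintype_card,
      Fintype.card_fin]
    have h3 : 2 ≤ 3 ^ (2 * m + 1) :=
      le_trans (by norm_num) (Nat.pow_le_pow_right (by norm_num) (show 1 ≤ 2 * m + 1 by omega))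
    calc 3 ^ (2 * m + 1) * (3 ^ (2 * m + 1) * 2) ≤
          3 ^ (2 * m + 1) * (3 ^ (2 * m + 1) * 3 ^ (2 * m + 1)) := by gcongr
      _ = _ := by ring

/-- Order nine. -/
theorem card_cent_nine {g : ↥(twistedG2 K (3 ^ m))} (hg : orderOf g = 9) :
    Nat.card ↥(Subgroup.centralizer {g}) ≤ 3 * 3 ^ (2 * m + 1) := by
  classical
  obtain ⟨s, hs⟩ := exists_conj_pU S (n := 2) (by rw [hg]; norm_num)
  rw [← card_centralizer_conj s g]
  obtain ⟨t, u, v, he⟩ := S.exists_wU hs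
  have hord : orderOf (s * g * s⁻¹) = 9 := by
    rw [show s * g * s⁻¹ = MulAut.conj s g from rfl, MulEquiv.orderOf_eq, hg]
  have ht : t ≠ 0 := by
    rintro rfl
    have h3 : (S.wU 0 u v) ^ 3 = 1 := Subtype.ext ((S.word_cube_iff 0 u v).2 rfl)
    rw [← he] at h3
    have := Nat.le_of_dvd (by norm_num) (orderOf_dvd_of_pow_eq_one h3)
    omega
  rw [he]
  have htop : ∀ i : ℕ, ∃ a c, S.wU t u v ^ i = S.wU ((i : K) * t) a c := by
    intro i
    induction i with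
    | zero => exact ⟨0, 0, by rw [Nat.cast_zero, zero_mul, S.wU_zero, pow_zero]⟩
    | succ i ih =>
      obtain ⟨a, c, h⟩ := ih
      obtain ⟨w, hw⟩ := S.wU_mul ((i : K) * t) a c t u v
      exact ⟨_, w, by rw [pow_succ, h, hw, Nat.cast_succ, add_mul, one_mul]⟩
  refine (card_le_of_cover (α := Fin 3 × K)
    (fun p => S.wU t u v ^ (p.1 : ℕ) * S.wU 0 0 p.2) fun x hx => ?_).trans ?_
  swap
  · rw [Nat.card_prod, Nat.card_eq_fintype_card, Fintype.card_fin, Nat.card_eq_fintype_card, S.card]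
  have hx' := Subgroup.mem_centralizer_singleton_iff.1 hx
  have hz : S.wU t u v ≠ 1 := fun h => ht (S.wU_inj (h.trans S.wU_zero.symm)).1
  obtain ⟨t', u', v', b, hxe⟩ := exists_pB_coords S (S.mem_pB_of_commute (S.wU_mem _ _ _) hz hx')
  -- the torus part is trivial
  have hb : b = 1 := by
    have h := S.tau_conj_wU b t u v
    have e : S.tauG b * S.wU t u v * (S.tauG b)⁻¹ = (S.wU t' u' v')⁻¹ * S.wU t u v * S.wU t' u' v' := by
      rw [show S.tauG b = (S.wU t' u' v')⁻¹ * x by rw [hxe]; group,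
        show (S.wU t' u' v')⁻¹ * x * S.wU t u v * ((S.wU t' u' v')⁻¹ * x)⁻¹ =
          (S.wU t' u' v')⁻¹ * (x * S.wU t u v) * x⁻¹ * S.wU t' u' v' by group, hx']
      group
    obtain ⟨w1, h1⟩ := S.wU_inv t' u' v'
    obtain ⟨w2, h2⟩ := S.wU_mul (-t') (-u' - t' * t' ^ (3 * 3 ^ m)) w1 t u v
    obtain ⟨w3, h3⟩ := S.wU_mul (-t' + t) (-u' - t' * t' ^ (3 * 3 ^ m) + u - -t' * t ^ (3 * 3 ^ m)) w2
      t' u' v'
    rw [h, h1, h2, h3] at e
    have e1 := (S.wU_inj e).1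
    rw [show -t' + t + t' = t by ring] at e1
    have h6 : b ^ S.tauExp 6 = 1 := Units.ext ((mul_eq_right₀ ht).1 e1)
    rcases units_sq_one S (S.sq_eq_one_of_tauExp (by decide) h6) with rfl | rfl
    · rfl
    · rw [(tauExp_six_odd S).neg_zpow, one_zpow] at h6
      exact absurd h6 S.neg_one_ne_one
  subst hb
  rw [map_one, mul_one] at hxe
  subst hxe
  -- the first coordinate
  obtain ⟨w, hw⟩ := S.wU_comm_top t u v t' u' v'
  rw [show S.wU t u v * S.wU t' u' v' * (S.wU t u v)⁻¹ * (S.wU t' u' v')⁻¹ = 1 by rw [← hx']; group,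
    ← S.wU_zero] at hw
  have hcm := (S.wU_inj hw).2.1
  set ρ := t' / t with hρ
  have ht' : t' = ρ * t := by rw [hρ, div_mul_cancel₀ _ ht]
  have hρe : ρ ^ (3 * 3 ^ m) = ρ := by
    rw [ht', mul_pow] at hcm
    have : (ρ ^ (3 * 3 ^ m) - ρ) * (t * t ^ (3 * 3 ^ m)) = 0 := by linear_combination hcm
    exact sub_eq_zero.1 ((mul_eq_zero.1 this).resolve_right (mul_ne_zero ht (pow_ne_zero _ ht)))
  have hρ3 : ρ ^ 3 = ρ := by
    have h := congrArg (fun z => z ^ (3 * 3 ^ m)) hρe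
    simp only [← pow_mul] at h
    rw [hρe, show 3 * 3 ^ m * (3 * 3 ^ m) = 3 * 3 ^ m * 3 ^ m * 3 by ring, pow_mul, S.pow_q] at h
    exact h
  obtain ⟨i, hi⟩ : ∃ i : Fin 3, ((i : ℕ) : K) = ρ := by
    have h : ρ * ((ρ - 1) * (ρ + 1)) = 0 := by linear_combination hρ3
    rcases mul_eq_zero.1 h with h | h
    · exact ⟨0, by simp [h]⟩
    rcases mul_eq_zero.1 h with h | h
    · exact ⟨1, by simp [sub_eq_zero.1 h]⟩
    · refine ⟨2, ?_⟩
      simp only [Fin.val_two, Nat.cast_ofNat]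
      linear_combination S.three_zero - h
  -- divide by a power of the element
  obtain ⟨a, c, hac⟩ := htop (i : ℕ)
  rw [hi, ← ht'] at hac
  obtain ⟨w1, h1⟩ := S.wU_inv t' a c
  obtain ⟨w2, h2⟩ := S.wU_mul (-t') (-a - t' * t' ^ (3 * 3 ^ m)) w1 t' u' v'
  set y := (S.wU t u v ^ (i : ℕ))⁻¹ * S.wU t' u' v' with hy
  have hyc : y * S.wU t u v = S.wU t u v * y := by
    have hc : Commute (S.wU t' u' v') (S.wU t u v) := hx'
    exact ((((Commute.refl _).pow_left _).inv_left).mul_left hc).eq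
  have hye : y = S.wU 0 (-a - t' * t' ^ (3 * 3 ^ m) + u' - -t' * t' ^ (3 * 3 ^ m)) w2 := by
    rw [hy, hac, h1, h2, neg_add_cancel]
  have hm' := S.wU_comm_mid t u v (-a - t' * t' ^ (3 * 3 ^ m) + u' - -t' * t' ^ (3 * 3 ^ m)) w2
  rw [← hye, show S.wU t u v * y * (S.wU t u v)⁻¹ * y⁻¹ = 1 by rw [← hyc]; group, ← S.wU_zero] at hm'
  have hu0 := (mul_eq_zero.1 (S.wU_inj hm').2.2.symm).resolve_left ht
  rw [hu0] at hye
  exact ⟨(i, w2), by rw [← hye, hy, mul_inv_cancel_left]⟩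

/-- Order six. -/
theorem card_cent_six {g : ↥(twistedG2 K (3 ^ m))} (hg : orderOf g = 6) :
    Nat.card ↥(Subgroup.centralizer {g}) ≤ 3 * 3 ^ (2 * m + 1) := by
  classical
  have h4 : orderOf (g ^ 4) = 3 := by
    rw [orderOf_pow, hg]; rfl
  obtain ⟨a, ha⟩ := exists_conj_pU S (n := 1) (by rw [h4, pow_one] : orderOf (g ^ 4) = 3 ^ 1)
  rw [← card_centralizer_conj a g]
  rw [← conj_pow] at ha
  obtain ⟨g', hg'⟩ : ∃ g', g' = a * g * a⁻¹ := ⟨_, rfl⟩
  rw [← hg'] at ha ⊢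
  have hord : orderOf g' = 6 := by
    rw [hg', show a * g * a⁻¹ = MulAut.conj a g from rfl, MulEquiv.orderOf_eq, hg]
  have h4' : orderOf (g' ^ 4) = 3 := by rw [orderOf_pow, hord]; rfl
  have h3' : orderOf (g' ^ 3) = 2 := by rw [orderOf_pow, hord]; rfl
  obtain ⟨t, u, v, he⟩ := S.exists_wU ha
  have ht : t = 0 := by
    have h3 : (g' ^ 4) ^ 3 = 1 := orderOf_dvd_iff_pow_eq_one.1 h4'.dvd
    rw [he] at h3
    exact (S.word_cube_iff t u v).1 (congrArg Subtype.val h3)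
  subst ht
  have hcomm : g' ^ 3 * S.wU 0 u v = S.wU 0 u v * g' ^ 3 := by
    rw [← he, ← pow_add, ← pow_add]
  -- the involution is outside `U¹`
  have hsU : g' ^ 3 ∉ S.pU := fun h => by
    have h9 := orderOf_dvd_of_pow_eq_one (S.pU_pow_nine h)
    rw [h3'] at h9
    norm_num at h9
  have hu : u ≠ 0 := by
    rintro rfl
    refine hsU (cent_bot S (fun hv => ?_) hcomm)
    rw [hv, S.wU_zero] at he
    rw [he, orderOf_one] at h4'
    omega
  obtain ⟨su, sv, sb, hsb, hse⟩ := cent_low_coords S hu hcomm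
  have hsb' : sb = -1 := by
    refine (units_sq_one S hsb).resolve_left fun h => hsU ?_
    rw [hse, h, map_one, mul_one]
    exact S.wU_mem _ _ _
  subst hsb'
  set ts := (v - ((-1 : Kˣ) : K) * v) / u with hts
  refine (card_le_of_cover (α := Fin 2 × K)
    (fun p => (g' ^ 3) ^ (p.1 : ℕ) * S.wU 0 p.2 (-(ts * p.2))) fun x hx => ?_).trans ?_
  swap
  · rw [Nat.card_prod, Nat.card_eq_fintype_card, Fintype.card_fin, Nat.card_eq_fintype_card, S.card]
    omega
  have hxg := Subgroup.mem_centralizer_singleton_iff.1 hx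
  have hx4 : x * S.wU 0 u v = S.wU 0 u v * x := by rw [← he]; exact (Commute.pow_right hxg 4).eq
  have hx3 : Commute x (g' ^ 3) := Commute.pow_right hxg 3
  -- reduce to the unipotent part
  have key : ∀ y, y * S.wU 0 u v = S.wU 0 u v * y → Commute y (g' ^ 3) → y ∈ S.pU →
      ∃ a, y = S.wU 0 a (-(ts * a)) := by
    intro y hy4 hy3 hyU
    obtain ⟨y1, y2, b, hb, hye⟩ := cent_low_coords S hu hy4
    have hb1 : b = 1 := by
      refine (units_sq_one S hb).resolve_right fun h => ?_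
      have hτ : S.tauG (-1) ∈ S.pU := by
        rw [h] at hye
        rw [show S.tauG (-1) = (S.wU ((v - ((-1 : Kˣ) : K) * v) / u) y1 y2)⁻¹ * y by rw [hye]; group]
        exact mul_mem (Subgroup.inv_mem _ (S.wU_mem _ _ _)) hyU
      have h9 := S.pU_pow_nine hτ
      rw [← map_pow, Odd.neg_one_pow (by decide), ← map_one S.tauG] at h9
      exact S.neg_one_ne_one (S.tauG_inj h9)
    rw [hb1, Units.val_one, one_mul, sub_self, zero_div, map_one, mul_one] at hye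
    subst hye
    have h := conj_low S ts su sv (-1) y1 y2
    rw [← hse, hy3.symm.eq, mul_inv_cancel_right, tau_ten_of_sq S (by simp), Units.val_one, one_mul] at h
    obtain ⟨-, -, h2⟩ := S.wU_inj h
    rw [Units.val_neg, Units.val_one] at h2
    refine ⟨y1, ?_⟩
    rw [show y2 = -(ts * y1) by linear_combination -h2 + y2 * S.three_zero]
  obtain ⟨xu, xv, xb, hxb, hxe⟩ := cent_low_coords S hu hx4
  rcases units_sq_one S hxb with rfl | rfl
  · obtain ⟨c, hc⟩ := key x hx4 hx3 (by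
      rw [hxe, map_one, mul_one]; exact S.wU_mem _ _ _)
    exact ⟨(0, c), by simp [← hc]⟩
  · set y := (g' ^ 3)⁻¹ * x with hy
    have hy4 : y * S.wU 0 u v = S.wU 0 u v * y := by
      have hs4 : Commute (g' ^ 3) (S.wU 0 u v) := hcomm
      exact ((hs4.inv_left).mul_left hx4).eq
    have hy3 : Commute y (g' ^ 3) := ((Commute.refl _).inv_left).mul_left hx3
    have hyU : y ∈ S.pU := by
      rw [hy, hse, hxe, mul_inv_rev, ← hts]
      have hb' := S.pB_normalizes (Subgroup.inv_mem _ (S.tauG_pB (-1)))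
        (mul_mem (Subgroup.inv_mem _ (S.wU_mem ts su sv)) (S.wU_mem ts xu xv))
      rw [inv_inv] at hb'
      convert hb' using 1
      group
    obtain ⟨c, hc⟩ := key y hy4 hy3 hyU
    exact ⟨(1, c), by simp only [Fin.val_one, pow_one, ← hc, hy, mul_inv_cancel_left]⟩

/-- Small centralisers, apart from the elements of order two and three. -/
theorem small_or_big (hm : 1 ≤ m) {g : ↥(twistedG2 K (3 ^ m))} (hg : g ≠ 1) :
    Nat.card ↥(Subgroup.centralizer {g}) ≤ 3 * 3 ^ (2 * m + 1) ∨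
      ((orderOf g = 2 ∨ orderOf g = 3) ∧
        Nat.card ↥(Subgroup.centralizer {g}) ≤ (3 ^ (2 * m + 1)) ^ 3) := by
  rcases small_or_order S hm hg with h | h | h | h | h
  · exact Or.inl h
  · refine Or.inr ⟨Or.inl h, ?_⟩
    obtain ⟨s, hs⟩ := S.isConj_invol hm (t := g) (by rw [← sq, ← h, pow_orderOf_eq_one]) hg
    rw [← hs, card_centralizer_conj, S.card_centralizer_invol]
    calc 3 ^ (2 * m + 1) * ((3 ^ (2 * m + 1)) ^ 2 - 1) ≤
          3 ^ (2 * m + 1) * (3 ^ (2 * m + 1)) ^ 2 := Nat.mul_le_mul_left _ (Nat.sub_le _ _)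
      _ = _ := by ring
  · exact Or.inr ⟨Or.inr h, card_cent_three S h⟩
  · exact Or.inl (card_cent_six S h)
  · exact Or.inl (card_cent_nine S h)

/-- The semisimple elements of order above two. -/
theorem torus_cases (hm : 1 ≤ m) {x : ↥(twistedG2 K (3 ^ m))} (hx2 : 2 < orderOf x)
    (hx3 : ¬ 3 ∣ orderOf x) :
    (Nat.card ↥(Subgroup.centralizer {x}) ≤ 3 ^ (2 * m + 1) + 1 ∧
      ∃ s, s * x * s⁻¹ ∈ Subgroup.centralizer {S.invol}) ∨
    (∃ T : TorusData ↥(twistedG2 K (3 ^ m)),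
      (T.k = 3 ^ (2 * m + 1) - 3 ^ (m + 1) + 1 ∨ T.k = 3 ^ (2 * m + 1) + 3 ^ (m + 1) + 1) ∧
        T.c = 1 ∧ T.w = 6 ∧ ∃ s, s * x * s⁻¹ ∈ T.A) := by
  obtain ⟨h8, hq3, -, -, h27, -⟩ := q_res S hm
  have := Fact.mk Nat.prime_two
  -- inside a torus with an involution
  have inside : ∀ (n : ℕ), orderOf x ∣ n → ¬ 4 ∣ n → ¬ 3 ∣ n →
      ∀ T : TorusData ↥(twistedG2 K (3 ^ m)), n ∣ 2 * T.k → T.c * T.k ≤ 3 ^ (2 * m + 1) + 1 → 2 ∣ T.c →
      Nat.card ↥(Subgroup.centralizer {x}) ≤ 3 ^ (2 * m + 1) + 1 ∧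
        ∃ s, s * x * s⁻¹ ∈ Subgroup.centralizer {S.invol} := by
    intro n hdn h4 h3 T hnk hle hc
    obtain ⟨l, hl, hl5, hld⟩ : ∃ l, l.Prime ∧ 5 ≤ l ∧ l ∣ orderOf x := by
      by_contra hex
      push Not at hex
      have := Nat.le_of_dvd two_pos
        (le_two_of_primes hdn h4 h3 fun l h1 h2 => hex l h1 h2)
      omega
    obtain ⟨hcard, s, hs⟩ := torus_of_prime T hl hld ((hl.dvd_mul.1 ((hld.trans hdn).trans hnk)).resolve_left
      fun h => by have := Nat.le_of_dvd two_pos h; omega)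
    refine ⟨hcard.trans hle, ?_⟩
    obtain ⟨t, ht⟩ := exists_prime_orderOf_dvd_card' (G := ↥T.M) 2 (T.cardM ▸ hc.mul_right T.k)
    have ht' : orderOf (t : ↥(twistedG2 K (3 ^ m))) = 2 := by rw [Subgroup.orderOf_coe, ht]
    obtain ⟨h, hh⟩ := S.isConj_invol hm (t := (t : ↥(twistedG2 K (3 ^ m))))
      (by rw [← sq, ← ht', pow_orderOf_eq_one]) (fun e => by rw [e, orderOf_one] at ht'; omega)
    refine ⟨h⁻¹ * s, Subgroup.mem_centralizer_singleton_iff.2 ?_⟩
    have hc' := T.comm _ hs _ t.2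
    rw [← hh] at hc'
    calc h⁻¹ * s * x * (h⁻¹ * s)⁻¹ * S.invol = h⁻¹ * (s * x * s⁻¹ * (h * S.invol * h⁻¹)) * h := by group
      _ = h⁻¹ * (h * S.invol * h⁻¹ * (s * x * s⁻¹)) * h := by rw [hc']
      _ = _ := by group
  rcases S.orderOf_cases hm x with h | h | h | h | h | h
  · have hle := Nat.le_of_dvd (by norm_num) h
    interval_cases hd : orderOf x <;> omega
  · have hle := Nat.le_of_dvd (by norm_num) h
    interval_cases hd : orderOf x <;> omega
  · obtain ⟨T, hk, hc, -, -⟩ := S.torusData_split hm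
    refine Or.inl (inside _ h (by omega) (by omega) T ?_ ?_ (by rw [hc]))
    · rw [hk, show 2 * ((3 ^ (2 * m + 1) - 1) / 2) = 3 ^ (2 * m + 1) - 1 by omega]
    · rw [hk, hc]; omega
  · obtain ⟨T, hk, hc, -, -, -⟩ := S.torusData_klein hm
    refine Or.inl (inside _ h (by omega) (by omega) T ?_ ?_ (by rw [hc]; norm_num))
    · rw [hk, show 2 * ((3 ^ (2 * m + 1) + 1) / 4) = (3 ^ (2 * m + 1) + 1) / 2 by omega]
    · rw [hk, hc]; omega
  · obtain ⟨T, hk, hc, hw⟩ := S.torusData_singer hm (N := 3 ^ (2 * m + 1) - 3 ^ (m + 1) + 1) (Or.inl rfl)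
    exact Or.inr ⟨T, Or.inl hk, hc, hw, T.exists_conj (orderOf_dvd_iff_pow_eq_one.1 (hk.symm ▸ h))⟩
  · obtain ⟨T, hk, hc, hw⟩ := S.torusData_singer hm (N := 3 ^ (2 * m + 1) + 3 ^ (m + 1) + 1) (Or.inr rfl)
    exact Or.inr ⟨T, Or.inr hk, hc, hw, T.exists_conj (orderOf_dvd_iff_pow_eq_one.1 (hk.symm ▸ h))⟩

end CfsgLib.Chev.ReeCover
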