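import Mathlib
import Cfsg.Agent.Lib.Chev.SL2Hom
import Cfsg.Agent.Lib.KnownB.SL2Class

/-!
Products of two conjugates in SL₂ over a finite field of characteristic three.
-/

set_option autoImplicit false
set_option maxHeartbeats 800000
set_option linter.unusedSectionVars false

namespace CfsgLib.Chev.ReeCover

open CfsgLib.Chev

variable {F : Type*} [Field F]

lemma slD_neg_one_sq : slD (-1 : Fˣ) * slD (-1) = (1 : Matrix.SpecialLinearGroup (Fin 2) F) := by
  apply Subtype.ext
  rw [Matrix.SpecialLinearGroup.coe_mul, Matrix.SpecialLinearGroup.coe_one]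
  ext i j
  fin_cases i <;> fin_cases j <;> simp [slD, Matrix.mul_apply, Fin.sum_univ_two]

/-- The degenerate traces give elements of order dividing six modulo the centre. -/
theorem pow_of_degenerate (h3 : (3 : F) = 0) (A : Matrix.SpecialLinearGroup (Fin 2) F)
    (h : A.1.trace = 0 ∨ A.1.trace ^ 2 = 4) :
    (A ^ 2 = slD (-1)) ∨ A ^ 3 = 1 ∨ A ^ 3 = slD (-1) := by
  have hd := A.2
  rw [Matrix.det_fin_two] at hd
  rw [Matrix.trace_fin_two] at h
  rcases h with h | h
  · left
    apply Subtype.ext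
    rw [Matrix.SpecialLinearGroup.coe_pow]
    ext i j
    fin_cases i <;> fin_cases j <;> simp [slD, pow_two, Matrix.mul_apply, Fin.sum_univ_two]
    · linear_combination (A.1 0 0) * h - hd
    · linear_combination (A.1 0 1) * h
    · linear_combination (A.1 1 0) * h
    · linear_combination (A.1 1 1) * h - hd
  · right
    rcases mul_eq_zero.1 (show (A.1 0 0 + A.1 1 1 - 2) * (A.1 0 0 + A.1 1 1 + 2) = 0 by
      linear_combination h) with h' | h'
    · left
      apply Subtype.ext
      rw [Matrix.SpecialLinearGroup.coe_pow, Matrix.SpecialLinearGroup.coe_one]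
      ext i j
      fin_cases i <;> fin_cases j <;> simp [pow_three, Matrix.mul_apply, Fin.sum_univ_two]
      · linear_combination (A.1 0 0) * h - h' - (2 * A.1 0 0 + A.1 1 1) * hd + (A.1 0 0 - 1) * h3
      · linear_combination (A.1 0 1) * h - (A.1 0 1) * hd + (A.1 0 1) * h3
      · linear_combination (A.1 1 0) * h - (A.1 1 0) * hd + (A.1 1 0) * h3
      · linear_combination (A.1 1 1) * h - h' - (A.1 0 0 + 2 * A.1 1 1) * hd + (A.1 1 1 - 1) * h3
    · right
      apply Subtype.ext
      rw [Matrix.SpecialLinearGroup.coe_pow]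
      ext i j
      fin_cases i <;> fin_cases j <;> simp [slD, pow_three, Matrix.mul_apply, Fin.sum_univ_two]
      · linear_combination (A.1 0 0) * h - h' - (2 * A.1 0 0 + A.1 1 1) * hd + (A.1 0 0 + 1) * h3
      · linear_combination (A.1 0 1) * h - (A.1 0 1) * hd + (A.1 0 1) * h3
      · linear_combination (A.1 1 0) * h - (A.1 1 0) * hd + (A.1 1 0) * h3
      · linear_combination (A.1 1 1) * h - h' - (A.1 0 0 + 2 * A.1 1 1) * hd + (A.1 1 1 + 1) * h3

variable [Fintype F]

/-- The trace determines the class away from `±2`. -/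
theorem isConj_of_trace {A B : Matrix.SpecialLinearGroup (Fin 2) F} (h4 : A.1.trace ^ 2 ≠ 4)
    (h : B.1.trace = A.1.trace) : IsConj A B := by
  classical
  have ns : ∀ C : Matrix.SpecialLinearGroup (Fin 2) F, C.1.trace ^ 2 ≠ 4 →
      KnownB.GL2.NonScalar C.1 := by
    intro C hC
    rw [KnownB.GL2.nonScalar_iff]
    by_contra hcon
    push Not at hcon
    obtain ⟨h1, h2, h3⟩ := hcon
    have hd := C.2
    rw [Matrix.det_fin_two, h1, h3] at hd
    refine hC ?_
    rw [Matrix.trace_fin_two, h3]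
    linear_combination 4 * hd
  refine KnownB.SL2.isConj_of_isConj_gl
    (KnownB.GL2.isConj_of_trace_det (ns A h4) (ns B (h.symm ▸ h4)) h.symm ?_) (Or.inl h4)
  exact A.2.trans B.2.symm

/-- Unipotent elements are products of two conjugates, up to the centre. -/
theorem two_conj_slU (h2 : (2 : F) ≠ 0) {A : Matrix.SpecialLinearGroup (Fin 2) F}
    (h0 : A.1.trace ≠ 0) (h4 : A.1.trace ^ 2 ≠ 4) {a : F} (ha : a ≠ 0) :
    ∃ P Q : Matrix.SpecialLinearGroup (Fin 2) F,
      slU a = P * A * P⁻¹ * (Q * A * Q⁻¹) * slD (-1) := by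
  set t := A.1.trace with ht
  set w := 2 * t / a with hw
  have hw0 : w ≠ 0 := div_ne_zero (mul_ne_zero h2 h0) ha
  let A1 : Matrix.SpecialLinearGroup (Fin 2) F :=
    ⟨!![0, -w⁻¹; w, t], by simp [Matrix.det_fin_two, hw0]⟩
  have e1 : A1.1.trace = t := by simp [A1, Matrix.trace_fin_two]
  have e2 : (A1⁻¹ * slU a * slD (-1)).1.trace = t := by
    rw [Matrix.SpecialLinearGroup.coe_mul, Matrix.SpecialLinearGroup.coe_mul,
      Matrix.SpecialLinearGroup.coe_inv]
    simp [A1, slU, slD, Matrix.trace_fin_two, Matrix.mul_apply, Fin.sum_univ_two]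
    have : w * a = 2 * t := by rw [hw, div_mul_cancel₀ _ ha]
    linear_combination this
  obtain ⟨P, hP⟩ := isConj_iff.1 (isConj_of_trace h4 e1)
  obtain ⟨Q, hQ⟩ := isConj_iff.1 (isConj_of_trace h4 e2)
  refine ⟨P, Q, ?_⟩
  rw [hP, hQ, mul_assoc, mul_assoc, slD_neg_one_sq, mul_one, mul_inv_cancel_left]

/-- The reflection is a product of two conjugates, up to the centre. -/
theorem two_conj_slW (h2 : (2 : F) ≠ 0) {A : Matrix.SpecialLinearGroup (Fin 2) F}
    (h4 : A.1.trace ^ 2 ≠ 4) :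
    ∃ P Q : Matrix.SpecialLinearGroup (Fin 2) F,
      slW = P * A * P⁻¹ * (Q * A * Q⁻¹) * slD (-1) := by
  classical
  set t := A.1.trace with ht
  have hodd : Fintype.card F % 2 = 1 := FiniteField.odd_card_of_char_ne_two (fun hr => h2 (by
    have := ringChar.Nat.cast_ringChar (R := F); rw [hr] at this; exact_mod_cast this))
  obtain ⟨a, b, hab⟩ : ∃ a b : F, a ^ 2 + b ^ 2 = t ^ 2 / 2 - 1 := by
    open Polynomial in
    obtain ⟨a, b, hab⟩ := FiniteField.exists_root_sum_quadratic (R := F) (f := X ^ 2)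
      (g := X ^ 2 - Polynomial.C (t ^ 2 / 2 - 1)) (degree_X_pow 2)
      (by rw [degree_sub_C (by rw [degree_X_pow]; norm_num), degree_X_pow]; rfl) hodd
    simp at hab
    exact ⟨a, b, by linear_combination hab⟩
  obtain ⟨u, rfl⟩ : ∃ u, a = u - t / 2 := ⟨a + t / 2, by ring⟩
  obtain ⟨w, rfl⟩ : ∃ w, b = w - t / 2 := ⟨b + t / 2, by ring⟩
  field_simp at hab
  let A1 : Matrix.SpecialLinearGroup (Fin 2) F :=
    ⟨!![u, w - t; w, t - u], by
      rw [Matrix.det_fin_two_of]
      refine mul_left_cancel₀ (mul_ne_zero h2 h2) ?_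
      linear_combination -hab⟩
  have e1 : A1.1.trace = t := by simp [A1, Matrix.trace_fin_two]
  have e2 : (A1⁻¹ * slW * slD (-1)).1.trace = t := by
    rw [Matrix.SpecialLinearGroup.coe_mul, Matrix.SpecialLinearGroup.coe_mul,
      Matrix.SpecialLinearGroup.coe_inv]
    simp [A1, slW, slD, Matrix.trace_fin_two, Matrix.mul_apply, Fin.sum_univ_two]
  obtain ⟨P, hP⟩ := isConj_iff.1 (isConj_of_trace h4 e1)
  obtain ⟨Q, hQ⟩ := isConj_iff.1 (isConj_of_trace h4 e2)
  refine ⟨P, Q, ?_⟩
  rw [hP, hQ, mul_assoc, mul_assoc, slD_neg_one_sq, mul_one, mul_inv_cancel_left]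

end CfsgLib.Chev.ReeCover
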