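import Mathlib
import Cfsg.Agent.Lib.Chev.ReeCover.LocalCent
import Cfsg.Agent.Lib.Chev.ReeCover.SLTwo
import Cfsg.Agent.Lib.KnownB.SzConjCover
import Cfsg.Agent.Lib.Char.FS
import Cfsg.Agent.Lib.Char.Invariants

/-!
Involutions and elements of order three of ²G₂(q) as products of two conjugates of a semisimple
element with a centraliser of order at most `q + 1`.
-/

set_option autoImplicit false
set_option maxHeartbeats 800000
set_option maxRecDepth 100000
set_option linter.unusedSectionVars false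

namespace CfsgLib.Chev.ReeCover

open Cfsg.Lie CfsgLib.Chev
open scoped ComplexConjugate

section General

variable {G : Type*} [Group G]

lemma two_conj_transport {x g g₀ s : G} (hg : s * g₀ * s⁻¹ = g)
    (h : ∃ u v : G, g₀ = u * x * u⁻¹ * (v * x * v⁻¹)) :
    ∃ u v : G, g = u * x * u⁻¹ * (v * x * v⁻¹) := by
  obtain ⟨u, v, rfl⟩ := h
  exact ⟨s * u, s * v, by rw [← hg]; group⟩

/-- Characters are real on real classes. -/
lemma conj_apply_of_real [Finite G] (χ : Cfsg.IrrCharacter G) {x : G} (h : IsConj x x⁻¹) :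
    conj ((χ : G → ℂ) x) = (χ : G → ℂ) x := by
  have e := Char.isClassFunction_isConj (Char.irr_isClassFunction χ.2) h
  rw [Char.char_inv (Char.irr_isCharacter χ.2)] at e
  exact e.symm

/-- The sum of a character along a homomorphism from a finite group. -/
lemma sum_comp_nat (χ : Cfsg.IrrCharacter G) {H : Type*} [Group H] [Fintype H] (f : H →* G) :
    ∃ d : ℕ, ∑ h : H, (χ : G → ℂ) (f h) = d := by
  obtain ⟨n, ρ, hρ⟩ := Char.irr_isCharacter χ.2
  have : Invertible (Nat.card H : ℂ) := invertibleOfNonzero (by exact_mod_cast Nat.card_pos.ne')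
  have h := Representation.card_inv_mul_sum_char_eq_finrank
    (ρ := (ρ.comp f : Representation ℂ H (Fin n → ℂ)))
  refine ⟨Nat.card H * Module.finrank ℂ
    (Representation.invariants (ρ.comp f : Representation ℂ H (Fin n → ℂ))), ?_⟩
  rw [Nat.cast_mul, ← h, ← mul_assoc, mul_inv_cancel₀ (by exact_mod_cast Nat.card_pos.ne'), one_mul, ← hρ]
  rfl

end General

variable {K : Type*} [Field K] [Fintype K] {m : ℕ} (S : SetupG2 K m)
include S

/-- The normal form of the element. -/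
theorem exists_psi_form {x : ↥(twistedG2 K (3 ^ m))} (hx2 : 2 < orderOf x) (hx3 : ¬ 3 ∣ orderOf x)
    (hxs : ∃ s, s * x * s⁻¹ ∈ Subgroup.centralizer {S.invol}) :
    ∃ (s c : ↥(twistedG2 K (3 ^ m))) (A : Matrix.SpecialLinearGroup (Fin 2) K),
      s * x * s⁻¹ = c * S.psiG A ∧ c * c = 1 ∧ (∀ X, Commute c (S.psiG X)) ∧
        A.1.trace ≠ 0 ∧ A.1.trace ^ 2 ≠ 4 := by
  obtain ⟨s, hs⟩ := hxs
  obtain ⟨A, hA⟩ := S.mem_centralizer_invol (Subgroup.mem_centralizer_singleton_iff.1 hs)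
  obtain ⟨c, hc, hc2, hcc⟩ : ∃ c, s * x * s⁻¹ = c * S.psiG A ∧ c * c = 1 ∧
      ∀ X, Commute c (S.psiG X) := by
    rcases hA with h | h
    · exact ⟨1, by rw [h, one_mul], one_mul 1, fun X => Commute.one_left _⟩
    · exact ⟨S.invol, h, S.invol_sq, S.invol_commute_psiG⟩
  refine ⟨s, c, A, hc, hc2, hcc, ?_⟩
  rw [← not_or]
  intro hdeg
  have hψ : S.psiG A ^ 6 = 1 := by
    rcases pow_of_degenerate S.three_zero A hdeg with h | h | h
    · rw [show 6 = 2 * 3 by norm_num, pow_mul, ← map_pow, h, S.psiG_slD, one_pow]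
    · rw [show 6 = 3 * 2 by norm_num, pow_mul, ← map_pow, h, map_one, one_pow]
    · rw [show 6 = 3 * 2 by norm_num, pow_mul, ← map_pow, h, S.psiG_slD, one_pow]
  have hx6 : (s * x * s⁻¹) ^ 6 = 1 := by
    rw [hc, (hcc A).mul_pow, hψ, mul_one, show 6 = 2 * 3 by norm_num, pow_mul, sq, hc2, one_pow]
  rw [conj_pow, conj_eq_one_iff] at hx6
  have hd := orderOf_dvd_of_pow_eq_one hx6
  have hle := Nat.le_of_dvd (by norm_num) hd
  interval_cases h : orderOf x <;> omega

/-- Images of products of two conjugates. -/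
theorem two_conj_psi {x s c : ↥(twistedG2 K (3 ^ m))} {A : Matrix.SpecialLinearGroup (Fin 2) K}
    (hx : s * x * s⁻¹ = c * S.psiG A) (hc2 : c * c = 1) (hcc : ∀ X, Commute c (S.psiG X))
    {T : Matrix.SpecialLinearGroup (Fin 2) K}
    (h : ∃ P Q : Matrix.SpecialLinearGroup (Fin 2) K, T = P * A * P⁻¹ * (Q * A * Q⁻¹) * slD (-1)) :
    ∃ u v, S.psiG T = u * x * u⁻¹ * (v * x * v⁻¹) := by
  obtain ⟨P, Q, rfl⟩ := h
  refine ⟨S.psiG P * s, S.psiG Q * s, ?_⟩
  have key : ∀ R, S.psiG R * s * x * (S.psiG R * s)⁻¹ = c * S.psiG (R * A * R⁻¹) := fun R => by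
    rw [show S.psiG R * s * x * (S.psiG R * s)⁻¹ = S.psiG R * (s * x * s⁻¹) * (S.psiG R)⁻¹ by group, hx,
      ← mul_assoc (S.psiG R) c, ← (hcc R).eq, map_mul, map_mul, map_inv]
    group
  rw [key, key, map_mul _ (_ * _) (slD (-1)), S.psiG_slD, mul_one, map_mul]
  calc S.psiG (P * A * P⁻¹) * S.psiG (Q * A * Q⁻¹) =
        c * c * (S.psiG (P * A * P⁻¹) * S.psiG (Q * A * Q⁻¹)) := by rw [hc2, one_mul]
    _ = c * (c * S.psiG (P * A * P⁻¹)) * S.psiG (Q * A * Q⁻¹) := by group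
    _ = c * (S.psiG (P * A * P⁻¹) * c) * S.psiG (Q * A * Q⁻¹) := by rw [(hcc _).eq]
    _ = _ := by group

/-- The element is conjugate to its inverse. -/
theorem isConj_inv {x s c : ↥(twistedG2 K (3 ^ m))} {A : Matrix.SpecialLinearGroup (Fin 2) K}
    (hx : s * x * s⁻¹ = c * S.psiG A) (hc2 : c * c = 1) (hcc : ∀ X, Commute c (S.psiG X))
    (h4 : A.1.trace ^ 2 ≠ 4) : IsConj x x⁻¹ := by
  obtain ⟨P, hP⟩ := isConj_iff.1 (isConj_of_trace h4 (B := A⁻¹) (by
    rw [Matrix.SpecialLinearGroup.coe_inv]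
    simp [Matrix.adjugate_fin_two, Matrix.trace_fin_two, add_comm]))
  have h1 : IsConj (s * x * s⁻¹) (s * x * s⁻¹)⁻¹ := by
    refine isConj_iff.2 ⟨S.psiG P, ?_⟩
    rw [hx, mul_inv_rev, inv_eq_of_mul_eq_one_right hc2, ← map_inv S.psiG A, ← (hcc A⁻¹).eq, ← hP,
      ← mul_assoc (S.psiG P) c, ← (hcc P).eq, map_mul, map_mul, map_inv]
    group
  have e : IsConj x (s * x * s⁻¹) := isConj_iff.2 ⟨s, rfl⟩
  refine e.trans (h1.trans ?_)
  exact isConj_iff.2 ⟨s⁻¹, by group⟩

/-- Elements of three-power order in the Borel subgroup. -/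
theorem mem_pU_of_pow {y : ↥(twistedG2 K (3 ^ m))} (hy : y ∈ S.pB) (h3 : y ^ 3 = 1) : y ∈ S.pU := by
  obtain ⟨t, u, v, b, rfl⟩ := exists_pB_coords S hy
  set w := S.wU t u v with hw
  have hwU : w ∈ S.pU := S.wU_mem t u v
  have hN : ∀ {z}, z ∈ S.pU → S.tauG b * z * (S.tauG b)⁻¹ ∈ S.pU := fun hz =>
    S.pB_normalizes (S.tauG_pB b) hz
  have e : S.tauG (b ^ 3) ∈ S.pU := by
    have h' : (w * S.tauG b) ^ 3 = w * (S.tauG b * w * (S.tauG b)⁻¹) *
        (S.tauG b * (S.tauG b * w * (S.tauG b)⁻¹) * (S.tauG b)⁻¹) * S.tauG (b ^ 3) := by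
      rw [map_pow, pow_three, pow_three]; group
    rw [h'] at h3
    rw [← inv_eq_of_mul_eq_one_right h3]
    exact Subgroup.inv_mem _ (mul_mem (mul_mem hwU (hN hwU)) (hN (hN hwU)))
  have h9 := S.pU_pow_nine e
  rw [← map_pow, ← map_one S.tauG, ← pow_mul] at h9
  have h27 : (b : K) ^ 27 = 1 := by
    have := congrArg Units.val (S.tauG_inj h9)
    simpa using this
  have hb : b = 1 := by
    have := S.char
    have := Fact.mk Nat.prime_three
    have h0 : ((b : K) - 1) ^ 3 ^ 3 = 0 := by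
      rw [sub_pow_char_pow (b : K) 1, one_pow, show 3 ^ 3 = 27 by norm_num, h27, sub_self]
    exact Units.ext (sub_eq_zero.1 ((pow_eq_zero_iff (by norm_num)).1 h0))
  rw [hb, map_one, mul_one]
  exact hwU

/-- The central element fixes one point. -/
theorem fixed_central {g : ↥(twistedG2 K (3 ^ m))} (hg : g ∈ S.pU) (hg3 : g ^ 3 = 1) (hg1 : g ≠ 1) :
    MulAction.fixedBy (↥(twistedG2 K (3 ^ m)) ⧸ S.pB) g = {QuotientGroup.mk 1} := by
  ext p
  induction p using QuotientGroup.induction_on with | _ a => ?_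
  rw [MulAction.mem_fixedBy, S.mk_fixed, Set.mem_singleton_iff, QuotientGroup.eq, mul_one,
    inv_mem_iff]
  constructor
  · intro h
    by_contra ha
    refine hg1 (S.conj_inf ha hg (mem_pU_of_pow S h ?_))
    have e : (a⁻¹ * g * a) ^ 3 = a⁻¹ * g ^ 3 * a := by rw [pow_three, pow_three]; group
    rw [e, hg3, mul_one, inv_mul_cancel]
  · intro ha
    have hgB : g ∈ S.pB := by
      obtain ⟨t, u, v, rfl⟩ := S.exists_wU hg
      exact S.pos_le_borel (S.word_pos t u v)
    exact mul_mem (mul_mem (Subgroup.inv_mem _ ha) hgB) ha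

/-- A semisimple element of order above two does not fix exactly one point. -/
theorem fixed_semisimple (hm : 1 ≤ m) {x : ↥(twistedG2 K (3 ^ m))} (hx2 : 2 < orderOf x)
    (hx3 : ¬ 3 ∣ orderOf x) :
    Nat.card (MulAction.fixedBy (↥(twistedG2 K (3 ^ m)) ⧸ S.pB) x) ≠ 1 := by
  obtain ⟨h8, hq3, -, -, h27, -⟩ := q_res S hm
  intro hcard
  obtain ⟨hsub, ⟨p, hp⟩⟩ := Nat.card_eq_one_iff_unique.1 hcard
  induction p using QuotientGroup.induction_on with | _ a => ?_
  have hB : a⁻¹ * x * a ∈ S.pB := (S.mk_fixed x a).1 hp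
  -- the order divides `q - 1`
  have hd : orderOf x ∣ 3 ^ (2 * m + 1) - 1 := by
    have h := orderOf_dvd_natCard (⟨_, hB⟩ : ↥S.pB)
    rw [S.card_pB, Subgroup.orderOf_mk, show a⁻¹ * x * a = MulAut.conj a⁻¹ x by simp,
      MulEquiv.orderOf_eq, ← pow_mul] at h
    exact (Nat.Coprime.pow_right _ (Nat.Coprime.symm
      ((Nat.Prime.coprime_iff_not_dvd Nat.prime_three).2 hx3))).dvd_of_dvd_mul_left h
  obtain ⟨T, hk, -, -, -⟩ := S.torusData_split hm
  obtain ⟨l, hl, hl5, hlx⟩ : ∃ l, l.Prime ∧ 5 ≤ l ∧ l ∣ orderOf x := by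
    by_contra hex
    push Not at hex
    have := Nat.le_of_dvd two_pos
      (le_two_of_primes hd (by omega) (by omega) fun l h1 h2 => hex l h1 h2)
    omega
  have := Fact.mk hl
  have hlk : l ∣ T.k := by
    have h := hlx.trans hd
    rw [show 3 ^ (2 * m + 1) - 1 = 2 * T.k by rw [hk]; omega] at h
    exact (hl.dvd_mul.1 h).resolve_left fun h => by have := Nat.le_of_dvd two_pos h; omega
  have hy : orderOf (x ^ (orderOf x / l)) = l := orderOf_pow_orderOf_div (orderOf_pos x).ne' hlx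
  set y := x ^ (orderOf x / l) with hydef
  obtain ⟨s, hs⟩ := exists_conj_le_of_cyclic (A := S.tauG.range)
    (isCyclic_of_surjective S.tauG.rangeRestrict S.tauG.rangeRestrict_surjective)
    (p := l) (by
      rw [S.card_tauG, show 3 ^ (2 * m + 1) - 1 = 2 * T.k by rw [hk]; omega]
      exact (T.full l hl hlk).mul_left 2)
    (P := Subgroup.zpowers y) (IsPGroup.of_card (n := 1) (by rw [Nat.card_zpowers, hy, pow_one]))
  obtain ⟨b, hb⟩ := hs y (Subgroup.mem_zpowers y)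
  have hb2 : b * b ≠ 1 := by
    intro h
    have hy2 : (s * y * s⁻¹) ^ 2 = 1 := by rw [← hb, ← map_pow, sq, h, map_one]
    rw [conj_pow, conj_eq_one_iff] at hy2
    have hle := Nat.le_of_dvd two_pos (orderOf_dvd_of_pow_eq_one hy2)
    omega
  have hxT : s * x * s⁻¹ ∈ S.tauG.range := by
    rw [← S.centralizer_tauG hb2, Subgroup.mem_centralizer_singleton_iff, hb]
    have hc : Commute x y := (Commute.refl x).pow_right _
    rw [show s * x * s⁻¹ * (s * y * s⁻¹) = s * (x * y) * s⁻¹ by group, hc.eq]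
    group
  obtain ⟨c, hc⟩ := hxT
  -- two fixed points
  have h1 : (QuotientGroup.mk s⁻¹ : ↥(twistedG2 K (3 ^ m)) ⧸ S.pB) ∈ MulAction.fixedBy _ x := by
    rw [MulAction.mem_fixedBy, S.mk_fixed, inv_inv, ← hc]
    exact S.tauG_pB c
  have h2 : (QuotientGroup.mk (s⁻¹ * S.omegaG) : ↥(twistedG2 K (3 ^ m)) ⧸ S.pB) ∈
      MulAction.fixedBy _ x := by
    rw [MulAction.mem_fixedBy, S.mk_fixed,
      show (s⁻¹ * S.omegaG)⁻¹ * x * (s⁻¹ * S.omegaG) = S.omegaG⁻¹ * (s * x * s⁻¹) * S.omegaG by group,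
      ← hc]
    exact S.tauG_pB_of (S.omega_tauG c)
  have he := congrArg Subtype.val (hsub.elim ⟨_, h1⟩ ⟨_, h2⟩)
  simp only [QuotientGroup.eq, inv_mul_cancel_left] at he
  exact S.omega_not_borel (S.mem_pB.1 he)

/-- The central case of the theorem. -/
theorem two_conj_central (hm : 1 ≤ m) {x : ↥(twistedG2 K (3 ^ m))} (hx2 : 2 < orderOf x)
    (hx3 : ¬ 3 ∣ orderOf x) (hreal : IsConj x x⁻¹)
    (hxc : Nat.card ↥(Subgroup.centralizer {x}) ≤ 3 ^ (2 * m + 1) + 1) :
    ∃ u v, S.wU 0 0 1 = u * x * u⁻¹ * (v * x * v⁻¹) := by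
  classical
  have : Fintype ↥(twistedG2 K (3 ^ m)) := Fintype.ofFinite _
  have : Fintype (Cfsg.IrrCharacter ↥(twistedG2 K (3 ^ m))) := Fintype.ofFinite _
  obtain ⟨-, -, -, -, h27, -⟩ := q_res S hm
  refine KnownB.SzCh.exists_two_conj fun hF => ?_
  set g := S.wU 0 0 1 with hg
  set q := 3 ^ (2 * m + 1) with hq
  have hg1 : g ≠ 1 := fun h => one_ne_zero (S.wU_inj (h.trans S.wU_zero.symm)).2.2
  have hg3 : g ^ 3 = 1 := Subtype.ext ((S.word_cube_iff 0 0 1).2 rfl)
  have hx1 : x ≠ 1 := fun h => by rw [h, orderOf_one] at hx2; omega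
  have hgord : orderOf g = 3 := by
    have := Fact.mk Nat.prime_three
    exact orderOf_eq_prime hg3 hg1
  have hxg : ¬ IsConj x g := fun h => by
    obtain ⟨s, hs⟩ := isConj_iff.1 h
    have e : orderOf g = orderOf x := by
      rw [← hs, show s * x * s⁻¹ = MulAut.conj s x from rfl, MulEquiv.orderOf_eq]
    rw [← e, hgord] at hx3
    exact hx3 dvd_rfl
  have hscale : ∀ v : Kˣ, S.tauG v * g * (S.tauG v)⁻¹ = S.wU 0 0 (v : K) := fun v => by
    rw [hg, S.tau_conj_wU, mul_zero, mul_zero,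
      show S.tauExp 11 = 1 from by simp [SetupG2.tauExp], zpow_one, mul_one]
  have hgreal : IsConj g g⁻¹ := by
    refine isConj_iff.2 ⟨S.tauG (-1), ?_⟩
    rw [hscale, Units.val_neg, Units.val_one, eq_comm]
    refine inv_eq_of_mul_eq_one_right ?_
    rw [hg, S.wU_low_mul, add_zero, add_neg_cancel, S.wU_zero]
  -- the sum over the central subgroup
  let f : Multiplicative K →* ↥(twistedG2 K (3 ^ m)) :=
    { toFun := fun v => S.wU 0 0 v.toAdd
      map_one' := S.wU_zero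
      map_mul' := fun a b => by rw [S.wU_low_mul, add_zero]; rfl }
  have hq1 : (1 : ℕ) ≤ q := by omega
  have hn : ∀ χ : Cfsg.IrrCharacter ↥(twistedG2 K (3 ^ m)), ∃ d : ℕ,
      (χ : ↥(twistedG2 K (3 ^ m)) → ℂ) 1 + ((q : ℂ) - 1) * (χ : ↥(twistedG2 K (3 ^ m)) → ℂ) g = d := by
    intro χ
    obtain ⟨d, hd⟩ := sum_comp_nat χ f
    refine ⟨d, ?_⟩
    rw [← hd, ← Equiv.sum_comp Multiplicative.ofAdd,
      ← Finset.add_sum_erase _ _ (Finset.mem_univ (0 : K))]
    have he : ∀ v ∈ Finset.univ.erase (0 : K),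
        (χ : ↥(twistedG2 K (3 ^ m)) → ℂ) (f (Multiplicative.ofAdd v)) = (χ : ↥(twistedG2 K (3 ^ m)) → ℂ) g := by
      intro v hv
      have hv0 := Finset.ne_of_mem_erase hv
      show (χ : ↥(twistedG2 K (3 ^ m)) → ℂ) (S.wU 0 0 v) = _
      rw [show v = ((Units.mk0 v hv0 : Kˣ) : K) from rfl, ← hscale]
      exact Char.irr_isClassFunction χ.2 g _
    rw [Finset.sum_congr rfl he, Finset.sum_const, Finset.card_erase_of_mem (Finset.mem_univ _),
      Finset.card_univ, S.card, nsmul_eq_mul, Nat.cast_sub hq1, Nat.cast_one]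
    show _ = (χ : ↥(twistedG2 K (3 ^ m)) → ℂ) (f 1) + _
    rw [map_one]
  choose d hd using hn
  have hr : ∀ χ : Cfsg.IrrCharacter ↥(twistedG2 K (3 ^ m)), ∃ r : ℝ, (χ : ↥(twistedG2 K (3 ^ m)) → ℂ) x = r := fun χ =>
    ⟨_, (Complex.conj_eq_iff_re.1 (conj_apply_of_real χ hreal)).symm⟩
  choose r hr using hr
  have h1 : ∀ χ : Cfsg.IrrCharacter ↥(twistedG2 K (3 ^ m)), ∃ e : ℕ, 0 < e ∧ (χ : ↥(twistedG2 K (3 ^ m)) → ℂ) 1 = e :=
    fun χ => Char.irr_apply_one_pos χ.2
  choose e he0 he using h1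
  -- the weights
  set wt : Cfsg.IrrCharacter ↥(twistedG2 K (3 ^ m)) → ℝ := fun χ => r χ ^ 2 * d χ / e χ with hwt
  have hwt0 : ∀ χ, 0 ≤ wt χ := fun χ => by
    rw [hwt]; exact div_nonneg (mul_nonneg (sq_nonneg _) (Nat.cast_nonneg _)) (Nat.cast_nonneg _)
  have hsum : ∑ χ, wt χ = (Nat.card ↥(Subgroup.centralizer {x}) : ℝ) := by
    have hcol := Char.column_orthogonality x x
    rw [if_pos (IsConj.refl x)] at hcol
    have key : ((∑ χ, wt χ : ℝ) : ℂ) = (Nat.card ↥(Subgroup.centralizer {x}) : ℂ) +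
        ((q : ℂ) - 1) * KnownB.SzCh.frobSum x g := by
      rw [← hcol, KnownB.SzCh.frobSum, Finset.mul_sum, ← Finset.sum_add_distrib, Complex.ofReal_sum]
      refine Finset.sum_congr rfl fun χ _ => ?_
      have hne : ((e χ : ℕ) : ℂ) ≠ 0 := by exact_mod_cast (he0 χ).ne'
      rw [conj_apply_of_real χ hreal, conj_apply_of_real χ hgreal, hr χ, he χ]
      simp only [hwt]
      push_cast
      rw [← hd χ, he χ]
      field_simp
    rw [hF, mul_zero, add_zero] at key
    exact_mod_cast key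
  -- the two distinguished characters
  have : MulAction.IsMultiplyPretransitive ↥(twistedG2 K (3 ^ m))
      (↥(twistedG2 K (3 ^ m)) ⧸ S.pB) 2 := by
    rw [MulAction.is_two_pretransitive_iff]
    intro a b c c' hab hcd
    obtain ⟨g1, e1, e2⟩ := S.double_transitive a b hab
    obtain ⟨g2, e3, e4⟩ := S.double_transitive c c' hcd
    refine ⟨g2 * g1⁻¹, ?_, ?_⟩
    · rw [← e1, mul_smul, inv_smul_smul, e3]
    · rw [← e2, mul_smul, inv_smul_smul, e4]
  have hindex : Nat.card (↥(twistedG2 K (3 ^ m)) ⧸ S.pB) = q ^ 3 + 1 := by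
    have h := S.pB.card_mul_index
    rw [S.card_pB, S.card_eq, ← hq] at h
    have hpos : 0 < q ^ 3 * (q - 1) := by
      have : 0 < q - 1 := by omega
      positivity
    exact Nat.eq_of_mul_eq_mul_left hpos h
  let one' : Cfsg.IrrCharacter ↥(twistedG2 K (3 ^ m)) := ⟨fun _ => 1, Char.isIrrCharacter_one⟩
  let st : Cfsg.IrrCharacter ↥(twistedG2 K (3 ^ m)) :=
    ⟨_, (Char.isIrr_perm_iff (↥(twistedG2 K (3 ^ m)) ⧸ S.pB) (by rw [hindex]; exact Nat.succ_le_succ (Nat.one_le_pow _ _ (by omega)))).2 this⟩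
  set a := Nat.card (MulAction.fixedBy (↥(twistedG2 K (3 ^ m)) ⧸ S.pB) x) with ha
  have ha1 : a ≠ 1 := fixed_semisimple S hm hx2 hx3
  have hst1 : (st : ↥(twistedG2 K (3 ^ m)) → ℂ) 1 = (q : ℂ) ^ 3 := by
    show (Nat.card (MulAction.fixedBy (↥(twistedG2 K (3 ^ m)) ⧸ S.pB)
      (1 : ↥(twistedG2 K (3 ^ m)))) : ℂ) - 1 = _
    rw [MulAction.fixedBy_one_eq_univ, Nat.card_univ, hindex]
    push_cast
    ring
  have hstg : (st : ↥(twistedG2 K (3 ^ m)) → ℂ) g = 0 := by
    show (Nat.card (MulAction.fixedBy (↥(twistedG2 K (3 ^ m)) ⧸ S.pB) g) : ℂ) - 1 = _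
    rw [fixed_central S (S.wU_mem _ _ _) hg3 hg1]
    simp
  have hstd : (d st : ℂ) = (q : ℂ) ^ 3 := by rw [← hd st, hst1, hstg, mul_zero, add_zero]
  have hone : (d one' : ℂ) = q := by
    rw [← hd one']
    show (1 : ℂ) + ((q : ℂ) - 1) * 1 = _
    ring
  have hwone : wt one' = q := by
    have h2 : r one' = 1 := by
      have h : (1 : ℂ) = (r one' : ℂ) := hr one'
      exact_mod_cast h.symm
    have h3 : e one' = 1 := by
      have h : (1 : ℂ) = (e one' : ℂ) := he one'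
      exact_mod_cast h.symm
    have h4 : d one' = q := by exact_mod_cast hone
    simp only [hwt, h2, h3, h4]
    norm_num
  have hrst : r st = (a : ℝ) - 1 := by
    have h := hr st
    change (a : ℂ) - 1 = _ at h
    apply Complex.ofReal_injective
    rw [← h]
    push_cast
    ring
  have hwst : 1 ≤ wt st := by
    have h4 : (d st : ℝ) = (q : ℝ) ^ 3 := by exact_mod_cast hstd
    have h5 : (e st : ℝ) = (q : ℝ) ^ 3 := by exact_mod_cast (he st).symm.trans hst1
    have hq0 : (q : ℝ) ^ 3 ≠ 0 := by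
      have : (0 : ℝ) < q := by exact_mod_cast hq1
      positivity
    simp only [hwt, h4, h5, hrst, mul_div_cancel_right₀ _ hq0]
    rcases Nat.lt_or_ge a 1 with h | h
    · simp [show a = 0 by omega]
    · have : (2 : ℝ) ≤ a := by exact_mod_cast show 2 ≤ a by omega
      nlinarith
  have hne : one' ≠ st := fun h => by
    have := congrArg (fun χ : Cfsg.IrrCharacter ↥(twistedG2 K (3 ^ m)) => (χ : ↥(twistedG2 K (3 ^ m)) → ℂ) g) h
    simp only [hstg] at this
    exact one_ne_zero this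
  have hrest : ∀ χ, χ ≠ one' ∧ χ ≠ st → wt χ = 0 := by
    intro χ hχ
    refine le_antisymm ?_ (hwt0 χ)
    have hle : wt one' + wt st + wt χ ≤ ∑ ψ, wt ψ := by
      rw [← Finset.sum_pair hne, ← Finset.sum_singleton wt χ, ← Finset.sum_union (by
        simp [hχ.1, hχ.2])]
      exact Finset.sum_le_univ_sum_of_nonneg fun ψ => hwt0 ψ
    rw [hsum, hwone] at hle
    have : (Nat.card ↥(Subgroup.centralizer {x}) : ℝ) ≤ q + 1 := by exact_mod_cast hxc
    linarith
  -- orthogonality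
  have hort : ∑ χ : Cfsg.IrrCharacter ↥(twistedG2 K (3 ^ m)), (χ : ↥(twistedG2 K (3 ^ m)) → ℂ) x * d χ = 0 := by
    have h2 := Char.column_orthogonality x g
    rw [if_neg hxg] at h2
    have h3 := Char.sum_irr_mul_degree x
    rw [if_neg hx1] at h3
    calc ∑ χ : Cfsg.IrrCharacter ↥(twistedG2 K (3 ^ m)), (χ : ↥(twistedG2 K (3 ^ m)) → ℂ) x * d χ
        = ∑ χ : Cfsg.IrrCharacter ↥(twistedG2 K (3 ^ m)), ((χ : ↥(twistedG2 K (3 ^ m)) → ℂ) 1 * (χ : ↥(twistedG2 K (3 ^ m)) → ℂ) x +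
            ((q : ℂ) - 1) * ((χ : ↥(twistedG2 K (3 ^ m)) → ℂ) x * conj ((χ : ↥(twistedG2 K (3 ^ m)) → ℂ) g))) := by
          refine Finset.sum_congr rfl fun χ _ => ?_
          rw [conj_apply_of_real χ hgreal, ← hd χ]
          ring
      _ = 0 := by rw [Finset.sum_add_distrib, h3, ← Finset.mul_sum, h2, mul_zero, add_zero]
  rw [Finset.sum_eq_add one' st hne (fun χ _ hχ => ?_) (by simp) (by simp)] at hort
  · rw [hone, hstd, hr st, hrst] at hort
    have hz : ((q : ℤ) + ((a : ℤ) - 1) * (q : ℤ) ^ 3 : ℤ) = 0 := by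
      have : ((((q : ℤ) + ((a : ℤ) - 1) * (q : ℤ) ^ 3 : ℤ)) : ℂ) = 0 := by
        rw [← hort]
        show _ = (1 : ℂ) * q + _
        push_cast
        ring
      exact_mod_cast this
    have hz' : (q : ℤ) ∣ 1 := by
      have : (q : ℤ) * (1 + ((a : ℤ) - 1) * (q : ℤ) ^ 2) = 0 := by linear_combination hz
      have h' := (mul_eq_zero.1 this).resolve_left (by exact_mod_cast (show q ≠ 0 by omega))
      exact ⟨-((a : ℤ) - 1) * q, by linear_combination h'⟩
    have := Int.le_of_dvd one_pos hz'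
    omega
  · have h0 := hrest χ hχ
    simp only [hwt, div_eq_zero_iff, mul_eq_zero, Nat.cast_eq_zero, (he0 χ).ne', or_false,
      pow_eq_zero_iff two_ne_zero] at h0
    rcases h0 with h0 | h0
    · rw [hr χ, h0]; simp
    · rw [h0]; simp

/-- Involutions and elements of order three are products of two conjugates of a non-Singer
semisimple element of order above two. -/
theorem nonsinger_big (hm : 1 ≤ m) {x g : ↥(twistedG2 K (3 ^ m))} (hx2 : 2 < orderOf x)
    (hx3 : ¬ 3 ∣ orderOf x)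
    (hxc : Nat.card ↥(Subgroup.centralizer {x}) ≤ 3 ^ (2 * m + 1) + 1)
    (hxs : ∃ s, s * x * s⁻¹ ∈ Subgroup.centralizer {S.invol})
    (hg : orderOf g = 2 ∨ orderOf g = 3) :
    ∃ u v, g = u * x * u⁻¹ * (v * x * v⁻¹) := by
  obtain ⟨s, c, A, hx, hc2, hcc, h0, h4⟩ := exists_psi_form S hx2 hx3 hxs
  have h2 : (2 : K) ≠ 0 := S.two_ne_zero'
  rcases hg with hg | hg
  · have hw := two_conj_psi S hx hc2 hcc (two_conj_slW h2 h4)
    obtain ⟨a, ha⟩ := S.isConj_invol hm (t := g) (orderOf_dvd_iff_pow_eq_one.1 hg.dvd |> (sq g).symm.trans)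
      (fun e => by rw [e, orderOf_one] at hg; omega)
    have hW2 : S.psiG slW * S.psiG slW = 1 := by
      rw [← map_mul]
      refine S.psiG_eq_one.2 (Or.inr ?_)
      apply Subtype.ext
      rw [Matrix.SpecialLinearGroup.coe_mul]
      ext i j
      fin_cases i <;> fin_cases j <;> simp [slW, slD, Matrix.mul_apply, Fin.sum_univ_two]
    have hW1 : S.psiG slW ≠ 1 := fun h => by
      rcases S.psiG_eq_one.1 h with e | e <;>
        have := congrArg (fun X : Matrix.SpecialLinearGroup (Fin 2) K => X.1 0 1) e <;>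
        simp [slW, slD] at this
    obtain ⟨b, hb⟩ := S.isConj_invol hm hW2 hW1
    refine two_conj_transport (s := a * b⁻¹) ?_ hw
    rw [← ha, ← hb]
    group
  · obtain ⟨a, ha⟩ := exists_conj_pU S (n := 1) (by rw [hg, pow_one])
    obtain ⟨t, u, v, he⟩ := S.exists_wU ha
    have hord : orderOf (a * g * a⁻¹) = 3 := by
      rw [show a * g * a⁻¹ = MulAut.conj a g from rfl, MulEquiv.orderOf_eq, hg]
    have ht : t = 0 := by
      have h3 : (a * g * a⁻¹) ^ 3 = 1 := orderOf_dvd_iff_pow_eq_one.1 hord.dvd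
      rw [he] at h3
      exact (S.word_cube_iff t u v).1 (congrArg Subtype.val h3)
    subst ht
    refine two_conj_transport (s := a⁻¹) (g₀ := S.wU 0 u v) (by rw [← he]; group) ?_
    by_cases hu : u = 0
    · subst hu
      have hv : v ≠ 0 := by
        rintro rfl
        rw [he, S.wU_zero, orderOf_one] at hord
        omega
      refine two_conj_transport (s := S.tauG (Units.mk0 v hv)) (g₀ := S.wU 0 0 1) ?_
        (two_conj_central S hm hx2 hx3 (isConj_inv S hx hc2 hcc h4) hxc)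
      rw [S.tau_conj_wU, mul_zero, mul_zero,
        show S.tauExp 11 = 1 from by simp [SetupG2.tauExp], zpow_one, mul_one, Units.val_mk0]
    · have e : S.psiG (slU u) = S.wU 0 u 0 := Subtype.ext (S.psi_slU_word u)
      refine two_conj_transport (s := S.wU (v / u) 0 0) (g₀ := S.wU 0 u 0) ?_
        (e ▸ two_conj_psi S hx hc2 hcc (two_conj_slU h2 h0 h4 hu))
      have h := S.wU_comm_mid (v / u) 0 0 u 0
      rw [div_mul_cancel₀ _ hu, mul_inv_eq_iff_eq_mul, S.wU_low_mul, zero_add, add_zero] at h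
      exact h

end CfsgLib.Chev.ReeCover
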