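import Cfsg.Agent.Lib.Chev.ReeCover.Singer
import Cfsg.Agent.Lib.Chev.ReeCover.Local

/-!
# The square of a class of order greater than two and prime to three covers ²G₂(q)
-/

set_option autoImplicit false
set_option linter.unusedSectionVars false

namespace CfsgLib.Chev.ReeCover

open Cfsg.Lie

variable {K : Type*} [Field K] [Fintype K] {m : ℕ} (S : SetupG2 K m)
include S

/-- Every non-trivial element is a product of two conjugates of `x`. -/
theorem cover (hm : 1 ≤ m) {x : ↥(twistedG2 K (3 ^ m))} (hx2 : 2 < orderOf x) (hx3 : ¬ 3 ∣ orderOf x)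
    {g : ↥(twistedG2 K (3 ^ m))} (hg : g ≠ 1) :
    ∃ u v : ↥(twistedG2 K (3 ^ m)), g = (u * x * u⁻¹) * (v * x * v⁻¹) := by
  classical
  have := Fintype.ofFinite ↥(twistedG2 K (3 ^ m))
  have := Fintype.ofFinite (Cfsg.IrrCharacter ↥(twistedG2 K (3 ^ m)))
  obtain ⟨hq27, hr9, hrr, h3q, hqodd, h3r⟩ := S.arith hm
  rcases small_or_big S hm hg with hsmall | ⟨hord, hbig⟩
  · -- small centralisers
    have hxc : Nat.card ↥(Subgroup.centralizer ({x} : Set ↥(twistedG2 K (3 ^ m)))) ≤
        3 ^ (2 * m + 1) + 3 ^ (m + 1) + 1 := by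
      rcases torus_cases S hm hx2 hx3 with ⟨h, -⟩ | ⟨T, hk, hc, hw, s, hs⟩
      · omega
      · have hne : (⟨s * x * s⁻¹, hs⟩ : ↥T.A) ≠ 1 := fun e => by
          have : x = 1 := conj_eq_one_iff.1 (congrArg Subtype.val e)
          rw [this, orderOf_one] at hx2
          omega
        have h := cent_eq_A hc hne
        have he : Nat.card ↥(Subgroup.centralizer ({x} : Set ↥(twistedG2 K (3 ^ m)))) =
            Nat.card ↥(Subgroup.centralizer ({s * x * s⁻¹} : Set ↥(twistedG2 K (3 ^ m)))) := by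
          refine Nat.card_congr ((MulAut.conj s).toEquiv.subtypeEquiv fun y => ?_)
          simp only [Subgroup.mem_centralizer_singleton_iff, MulEquiv.toEquiv_eq_coe, MulEquiv.coe_toEquiv,
            MulAut.conj_apply]
          constructor
          · intro e
            calc s * y * s⁻¹ * (s * x * s⁻¹) = s * (y * x) * s⁻¹ := by group
              _ = _ := by rw [e]; group
          · intro e
            have e' : s * (y * x) * s⁻¹ = s * (x * y) * s⁻¹ := by
              calc s * (y * x) * s⁻¹ = s * y * s⁻¹ * (s * x * s⁻¹) := by group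
                _ = _ := by rw [e]; group
            exact mul_left_cancel (mul_right_cancel e')
        rw [he, h]
        rcases hk with hk | hk <;> rw [hk] <;> omega
    refine two_conj_small (S.degBound hm) (c := ((3 ^ (2 * m + 1) + 3 ^ (m + 1) + 1 : ℕ) : ℝ))
      (C := ((3 * 3 ^ (2 * m + 1) : ℕ) : ℝ)) (by exact_mod_cast hxc) (by exact_mod_cast hsmall) ?_
    set q := 3 ^ (2 * m + 1)
    set r := 3 ^ (m + 1)
    rw [add_zero] at h3r
    have hd : 26 * q + 1 ≤ q ^ 2 - q + 1 := by
      have : 27 * q ≤ q ^ 2 := by rw [sq]; exact Nat.mul_le_mul_right q hq27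
      omega
    have key : (q + r + 1) ^ 2 * (3 * q) < (q ^ 2 - q + 1) ^ 2 := by
      have h1 : 3 * (q + r + 1) ≤ 5 * q := by omega
      have h2 : (3 * (q + r + 1)) ^ 2 * (3 * q) ≤ (5 * q) ^ 2 * (3 * q) :=
        Nat.mul_le_mul_right _ (Nat.pow_le_pow_left h1 2)
      have h3 : q ^ 2 ≤ q ^ 2 - q + 1 + q := by omega
      have h4 : (26 * q) * (26 * q) ≤ 27 * ((q ^ 2 - q + 1) * q) := by nlinarith
      nlinarith
    exact_mod_cast key
  · rcases torus_cases S hm hx2 hx3 with ⟨h, hs⟩ | ⟨T, hk, hc, hw, s, hs⟩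
    · exact nonsinger_big S hm hx2 hx3 h hs hord
    · have hne : (⟨s * x * s⁻¹, hs⟩ : ↥T.A) ≠ 1 := fun e => by
        have : x = 1 := conj_eq_one_iff.1 (congrArg Subtype.val e)
        rw [this, orderOf_one] at hx2
        omega
      obtain ⟨u, v, h⟩ := S.singer_big hm T hk rfl hc hw hne hord hbig
      exact ⟨u * s, v * s, by rw [h]; group⟩

end CfsgLib.Chev.ReeCover
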