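import Cfsg.Agent.Lib.Chev.TorusData
import Cfsg.Agent.Lib.Char.Column
import Cfsg.Agent.Lib.BlockB.Convolution
import Mathlib.GroupTheory.FiniteAbelian.Duality

/-!
# The values of the irreducible characters on a torus with its own fusion

For a torus datum `T` and a linear character `l` of `T.A` the integer `psi T χ l` is the difference
of the multiplicities of `l` and of the trivial character in the restriction of `χ`.  These vectors
have an explicit Gram matrix and determine the values of `χ` on `T.A` away from the identity.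
-/

set_option autoImplicit false
set_option linter.unusedSectionVars false

namespace CfsgLib.Chev.ReeCover

open CfsgLib.Char
open scoped ComplexConjugate

variable {G : Type*} [Group G] [Fintype G] (T : TorusData G)

noncomputable local instance {H : Subgroup G} : Fintype ↥H := Fintype.ofFinite _

/-- The linear characters of the cyclic group. -/
abbrev Dual := ↥T.A →* ℂˣ

/-- The value of a linear character. -/
abbrev val {T : TorusData G} (l : Dual T) (a : ↥T.A) : ℂ := ((l a : ℂˣ) : ℂ)

theorem val_mul {T : TorusData G} (l : Dual T) (a b : ↥T.A) : val l (a * b) = val l a * val l b := by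
  simp [val]

theorem val_one {T : TorusData G} (l : Dual T) : val l 1 = 1 := by simp [val]

theorem val_inv {T : TorusData G} (l : Dual T) (a : ↥T.A) : val l a⁻¹ = (val l a)⁻¹ := by simp [val]

theorem one_val {T : TorusData G} (a : ↥T.A) : val (1 : Dual T) a = 1 := by simp [val]

theorem mul_val {T : TorusData G} (l l' : Dual T) (a : ↥T.A) : val (l * l') a = val l a * val l' a := by
  simp [val]

theorem comm_A (a b : ↥T.A) : a * b = b * a := Subtype.ext (T.comm _ (T.le a.2) _ (T.le b.2))

/-- Conjugation by an element of the normaliser. -/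
noncomputable def nConj (n : ↥(Subgroup.normalizer (T.A : Set G))) : ↥T.A ≃* ↥T.A where
  toFun a := ⟨(n : G) * a * (n : G)⁻¹, (Subgroup.mem_normalizer_iff.1 n.2 a).1 a.2⟩
  invFun a := ⟨(n : G)⁻¹ * a * n, (Subgroup.mem_normalizer_iff'.1 n.2 _).2 (by
    rw [show (n : G) * ((n : G)⁻¹ * a) = a by group]; exact a.2)⟩
  left_inv a := Subtype.ext (by group)
  right_inv a := Subtype.ext (by group)
  map_mul' a b := Subtype.ext (by push_cast; group)

@[simp] theorem coe_nConj (n : ↥(Subgroup.normalizer (T.A : Set G))) (a : ↥T.A) :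
    ((nConj T n a : ↥T.A) : G) = (n : G) * a * (n : G)⁻¹ := rfl

/-- The action of the normaliser on linear characters. -/
noncomputable def act (n : ↥(Subgroup.normalizer (T.A : Set G))) (l : Dual T) : Dual T :=
  l.comp (nConj T n).toMonoidHom

theorem conj_val (l : Dual T) (a : ↥T.A) : conj (val l a) = val l a⁻¹ := by
  have hn : ‖val l a‖ = 1 := by
    refine Complex.norm_eq_one_of_pow_eq_one (n := T.k) ?_ T.k_pos.ne'
    have ha : a ^ T.k = 1 := Subtype.ext (by simpa using T.pow_k a.2)
    rw [← Units.val_pow_eq_pow_val, ← map_pow, ha, map_one, Units.val_one]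
  rw [← Complex.inv_eq_conj hn, val_inv]

open scoped Classical in
theorem sum_val (l : Dual T) : ∑ a : ↥T.A, val l a = if l = 1 then (T.k : ℂ) else 0 := by
  split_ifs with h
  · subst h
    simp [val, ← Nat.card_eq_fintype_card, T.cardA]
  · obtain ⟨b, hb⟩ : ∃ b, l b ≠ 1 := by
      by_contra hc
      exact h (MonoidHom.ext fun a => by simpa using not_not.1 (not_exists.1 hc a))
    have e : val l b * ∑ a, val l a = ∑ a, val l a := by
      rw [Finset.mul_sum]
      exact Fintype.sum_equiv (Equiv.mulLeft b) _ _ fun a => by simp [val]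
    refine (mul_eq_zero.1 (show (val l b - 1) * ∑ a, val l a = 0 by linear_combination e)).resolve_left ?_
    exact sub_ne_zero.2 fun h1 => hb (Units.ext h1)

theorem finite_dual : Finite (Dual T) := by
  let _ : CommGroup ↥T.A := { (inferInstance : Group ↥T.A) with mul_comm := comm_A T }
  exact inferInstanceAs (Finite (↥T.A →* ℂˣ))

theorem card_dual : Nat.card (Dual T) = T.k := by
  let _ : CommGroup ↥T.A := { (inferInstance : Group ↥T.A) with mul_comm := comm_A T }
  rw [← T.cardA]
  exact CommGroup.card_monoidHom_of_hasEnoughRootsOfUnity ↥T.A ℂ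

open scoped Classical in
theorem sum_dual [Fintype (Dual T)] (a : ↥T.A) :
    ∑ l : Dual T, val l a = if a = 1 then (T.k : ℂ) else 0 := by
  split_ifs with h
  · subst h
    simp [val, ← Nat.card_eq_fintype_card, card_dual]
  · let _ : CommGroup ↥T.A := { (inferInstance : Group ↥T.A) with mul_comm := comm_A T }
    obtain ⟨l₀, hl₀⟩ := CommGroup.exists_apply_ne_one_of_hasEnoughRootsOfUnity ↥T.A ℂ h
    have e : val l₀ a * ∑ l : Dual T, val l a = ∑ l : Dual T, val l a := by
      rw [Finset.mul_sum]
      exact Fintype.sum_equiv (Equiv.mulLeft l₀) _ _ fun l => by simp [val]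
    refine (mul_eq_zero.1 (show (val l₀ a - 1) * ∑ l : Dual T, val l a = 0 by linear_combination e)).resolve_left ?_
    exact sub_ne_zero.2 fun h1 => hl₀ (Units.ext h1)

/-- The multiplicity of a linear character in the restriction of an irreducible character. -/
theorem exists_mult (χ : Cfsg.IrrCharacter G) (l : Dual T) :
    ∃ d : ℤ, ∑ a : ↥T.A, (χ : G → ℂ) a * conj (val l a) = (T.k : ℂ) * d := by
  obtain ⟨χ, N, ρ, hρ, rfl⟩ := χ
  let μ : Representation ℂ ↥T.A (Fin 1 → ℂ) :=
    { toFun := fun a => val l a • (1 : Module.End ℂ (Fin 1 → ℂ))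
      map_one' := by simp [val]
      map_mul' := fun a b => by simp [val, smul_smul, mul_comm] }
  have hμ : μ.character = fun a => val l a := funext fun a => by
    show LinearMap.trace ℂ _ (val l a • (1 : Module.End ℂ (Fin 1 → ℂ))) = _
    simp
  obtain ⟨d, hd⟩ := classInner_isCharacter_nat (φ := Representation.character (k := ℂ) (ρ.comp T.A.subtype : Representation ℂ ↥T.A (Fin N → ℂ)))
    (ψ := μ.character) ⟨_, _, rfl⟩ ⟨_, _, rfl⟩
  refine ⟨d, ?_⟩
  rw [hμ, Cfsg.classInner, T.cardA, inv_mul_eq_iff_eq_mul₀ (Nat.cast_ne_zero.2 T.k_pos.ne')] at hd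
  push_cast
  rw [← hd]
  rfl

/-- The multiplicity of `l`. -/
noncomputable def mult (χ : Cfsg.IrrCharacter G) (l : Dual T) : ℤ := (exists_mult T χ l).choose

theorem mult_spec (χ : Cfsg.IrrCharacter G) (l : Dual T) :
    ∑ a : ↥T.A, (χ : G → ℂ) a * conj (val l a) = (T.k : ℂ) * mult T χ l :=
  (exists_mult T χ l).choose_spec

/-- The difference of the multiplicities of `l` and of the trivial character. -/
noncomputable def psi (χ : Cfsg.IrrCharacter G) (l : Dual T) : ℤ := mult T χ l - mult T χ 1

theorem psi_spec (χ : Cfsg.IrrCharacter G) (l : Dual T) :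
    ∑ a : ↥T.A, (χ : G → ℂ) a * (conj (val l a) - 1) = (T.k : ℂ) * psi T χ l := by
  have h1 := mult_spec T χ 1
  simp only [val, MonoidHom.one_apply, Units.val_one, map_one, mul_one] at h1
  rw [psi, Int.cast_sub, mul_sub (T.k : ℂ), ← mult_spec T χ l, ← h1, ← Finset.sum_sub_distrib]
  simp [mul_sub]

theorem psi_one (χ : Cfsg.IrrCharacter G) : psi T χ 1 = 0 := sub_self _

/-- The values on the non-trivial elements of `T.A`. -/
theorem apply_eq_sum [Fintype (Dual T)] (χ : Cfsg.IrrCharacter G) {a : ↥T.A} (ha : a ≠ 1) :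
    (χ : G → ℂ) a = ∑ l : Dual T, (psi T χ l : ℂ) * val l a := by
  classical
  have hk : (T.k : ℂ) ≠ 0 := Nat.cast_ne_zero.2 T.k_pos.ne'
  apply mul_left_cancel₀ hk
  calc (T.k : ℂ) * (χ : G → ℂ) a
      = ∑ b : ↥T.A, (χ : G → ℂ) b * (if a * b⁻¹ = 1 then (T.k : ℂ) else 0) := by
        rw [Finset.sum_eq_single a (fun b _ hb => by
          rw [if_neg (fun e => hb (mul_inv_eq_one.1 e).symm), mul_zero])
          (fun h => absurd (Finset.mem_univ a) h)]
        simp [mul_comm]
    _ = ∑ l : Dual T, ∑ b : ↥T.A, (χ : G → ℂ) b * (val l a * conj (val l b)) := by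
        rw [Finset.sum_comm]
        refine Finset.sum_congr rfl fun b _ => ?_
        rw [← sum_dual, Finset.mul_sum]
        exact Finset.sum_congr rfl fun l _ => by rw [conj_val, val_mul]
    _ = ∑ l : Dual T, val l a * ((T.k : ℂ) * mult T χ l) := by
        refine Finset.sum_congr rfl fun l _ => ?_
        rw [← mult_spec, Finset.mul_sum]
        exact Finset.sum_congr rfl fun b _ => by ring
    _ = ∑ l : Dual T, ((T.k : ℂ) * ((psi T χ l : ℂ) * val l a) + val l a * ((T.k : ℂ) * mult T χ 1)) := by
        refine Finset.sum_congr rfl fun l _ => ?_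
        rw [psi]; push_cast; ring
    _ = _ := by
        rw [Finset.sum_add_distrib, ← Finset.mul_sum, ← Finset.sum_mul, sum_dual, if_neg ha,
          zero_mul, add_zero]

theorem sum_mult [Fintype (Dual T)] (χ : Cfsg.IrrCharacter G) :
    (χ : G → ℂ) 1 = ∑ l : Dual T, (mult T χ l : ℂ) := by
  classical
  have hk : (T.k : ℂ) ≠ 0 := Nat.cast_ne_zero.2 T.k_pos.ne'
  apply mul_left_cancel₀ hk
  rw [Finset.mul_sum]
  simp only [← mult_spec]
  rw [Finset.sum_comm]
  simp only [← Finset.mul_sum, conj_val, sum_dual, inv_eq_one, mul_ite, mul_zero]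
  rw [Finset.sum_ite_eq' Finset.univ (1 : ↥T.A) fun b => (χ : G → ℂ) b * (T.k : ℂ)]
  simp [mul_comm]

theorem fusion {a b : ↥T.A} (ha : a ≠ 1) {g : G} (h : g * a * g⁻¹ = b) :
    g ∈ Subgroup.normalizer (T.A : Set G) := by
  have hb : (b : G) ≠ 1 := fun e => ha (Subtype.ext (by simpa using conj_eq_one_iff.1 (h.trans e)))
  have heq := T.subgroup_eq (Subgroup.zpowers_le.2 a.2) (Subgroup.zpowers_le.2 b.2)
    (by rw [Nat.card_zpowers, Nat.card_zpowers, ← h]; exact (MulEquiv.orderOf_eq (MulAut.conj g) _).symm)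
  rw [← T.normEq _ (Subgroup.zpowers_le.2 a.2) (by simpa using ha), Subgroup.mem_normalizer_iff]
  intro u
  constructor
  · rintro ⟨j, rfl⟩
    rw [← conj_zpow, h, heq]
    exact zpow_mem (Subgroup.mem_zpowers _) j
  · intro hu
    rw [heq] at hu
    obtain ⟨j, hj⟩ := hu
    refine ⟨j, ?_⟩
    simp only [← h, conj_zpow] at hj
    exact mul_left_cancel (mul_right_cancel hj)

/-- The elements of the normaliser with a prescribed image of `a`. -/
theorem card_fiber {a b : ↥T.A} (ha : a ≠ 1) {g : G} (hg : g * a * g⁻¹ = b) :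
    Nat.card {n : ↥(Subgroup.normalizer (T.A : Set G)) // nConj T n a = b} =
      Nat.card ↥(Subgroup.centralizer ({(a : G)} : Set G)) := by
  have hval : ∀ n : ↥(Subgroup.normalizer (T.A : Set G)), nConj T n a = b →
      (n : G) * a * (n : G)⁻¹ = g * a * g⁻¹ := fun n hn => by rw [hg, ← coe_nConj, hn]
  refine Nat.card_eq_of_bijective (fun n => ⟨g⁻¹ * (n.1 : G), ?_⟩) ⟨fun n n' h => ?_, fun c => ?_⟩
  · rw [Subgroup.mem_centralizer_singleton_iff]
    calc g⁻¹ * (n.1 : G) * a = g⁻¹ * ((n.1 : G) * a * (n.1 : G)⁻¹) * n.1 := by group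
      _ = g⁻¹ * (g * a * g⁻¹) * n.1 := by rw [hval n.1 n.2]
      _ = _ := by group
  · exact Subtype.ext (Subtype.ext (mul_left_cancel (congrArg Subtype.val h)))
  · have hc := Subgroup.mem_centralizer_singleton_iff.1 c.2
    have hgc : g * c.1 * (a : G) * (g * c.1)⁻¹ = b := by
      rw [← hg, mul_assoc g c.1, hc]; group
    exact ⟨⟨⟨g * c.1, fusion T ha hgc⟩, Subtype.ext hgc⟩, Subtype.ext (by simp)⟩

open scoped Classical in
/-- Column orthogonality, averaged over the normaliser. -/
theorem sum_column [Fintype (Cfsg.IrrCharacter G)] {a : ↥T.A} (ha : a ≠ 1) (f : ↥T.A → ℂ) :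
    ∑ b : ↥T.A, f b * ∑ χ : Cfsg.IrrCharacter G, (χ : G → ℂ) a * conj ((χ : G → ℂ) b) =
      ∑ n : ↥(Subgroup.normalizer (T.A : Set G)), f (nConj T n a) := by
  rw [← Finset.sum_fiberwise (s := Finset.univ) (g := fun n => nConj T n a) (f := fun n => f (nConj T n a))]
  refine Finset.sum_congr rfl fun b _ => ?_
  rw [column_orthogonality, Finset.sum_congr rfl (g := fun _ => f b) (fun n hn => by
    rw [(Finset.mem_filter.1 hn).2]), Finset.sum_const, nsmul_eq_mul, mul_comm]
  congr 1
  split_ifs with hc
  · obtain ⟨g, hg⟩ := isConj_iff.1 hc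
    have hgN := fusion T ha hg
    rw [← Fintype.card_subtype, ← Nat.card_eq_fintype_card, card_fiber T ha hg]
  · rw [Finset.card_eq_zero.2, Nat.cast_zero]
    refine Finset.filter_eq_empty_iff.2 fun n _ hn => hc ?_
    exact isConj_iff.2 ⟨n, by rw [← hn, coe_nConj]⟩

open scoped Classical in
/-- The Gram matrix. -/
theorem gram [Fintype (Cfsg.IrrCharacter G)] (l l' : Dual T) (hl : l ≠ 1) (hl' : l' ≠ 1) :
    (T.k : ℂ) * ∑ χ : Cfsg.IrrCharacter G, (psi T χ l : ℂ) * psi T χ l' =
      (Nat.card ↥(Subgroup.normalizer (T.A : Set G)) : ℂ) +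
        ((Finset.univ.filter fun n => act T n l' = l).card : ℂ) := by
  have hk : (T.k : ℂ) ≠ 0 := Nat.cast_ne_zero.2 T.k_pos.ne'
  apply mul_left_cancel₀ hk
  have hconj : ∀ χ : Cfsg.IrrCharacter G, (T.k : ℂ) * psi T χ l' =
      ∑ b : ↥T.A, conj ((χ : G → ℂ) b) * (val l' b - 1) := fun χ => by
    have h := congrArg conj (psi_spec T χ l')
    simpa [map_sum] using h.symm
  calc (T.k : ℂ) * ((T.k : ℂ) * ∑ χ : Cfsg.IrrCharacter G, (psi T χ l : ℂ) * psi T χ l')
      = ∑ χ : Cfsg.IrrCharacter G, ((T.k : ℂ) * psi T χ l) * ((T.k : ℂ) * psi T χ l') := by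
        rw [Finset.mul_sum, Finset.mul_sum]
        exact Finset.sum_congr rfl fun χ _ => by ring
    _ = ∑ a : ↥T.A, (conj (val l a) - 1) *
          ∑ b : ↥T.A, (val l' b - 1) * ∑ χ : Cfsg.IrrCharacter G, (χ : G → ℂ) a * conj ((χ : G → ℂ) b) := by
        rw [Finset.sum_congr rfl fun χ _ => by rw [← psi_spec, hconj, Finset.sum_mul_sum],
          Finset.sum_comm]
        refine Finset.sum_congr rfl fun a _ => ?_
        rw [Finset.mul_sum, Finset.sum_comm]
        refine Finset.sum_congr rfl fun b _ => ?_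
        rw [Finset.mul_sum, Finset.mul_sum]
        exact Finset.sum_congr rfl fun χ _ => by ring
    _ = ∑ a : ↥T.A, (conj (val l a) - 1) *
          ∑ n : ↥(Subgroup.normalizer (T.A : Set G)), (val l' (nConj T n a) - 1) := by
        refine Finset.sum_congr rfl fun a _ => ?_
        by_cases ha : a = 1
        · subst ha; simp [val]
        · rw [sum_column T ha fun b => val l' b - 1]
    _ = ∑ n : ↥(Subgroup.normalizer (T.A : Set G)),
          ((if act T n l' = l then (T.k : ℂ) else 0) + (T.k : ℂ)) := by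
        simp only [Finset.mul_sum]
        rw [Finset.sum_comm]
        refine Finset.sum_congr rfl fun n _ => ?_
        have e : ∀ a, (conj (val l a) - 1) * (val l' (nConj T n a) - 1) =
            val (act T n l' * l⁻¹) a - val l⁻¹ a - val (act T n l') a + 1 := by
          intro a
          rw [conj_val, mul_val, val_inv]
          simp [act, val]
          ring
        have h2 : act T n l' ≠ 1 := fun h => hl' (MonoidHom.ext fun a => by
          simpa [act] using DFunLike.congr_fun h ((nConj T n).symm a))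
        rw [Finset.sum_congr rfl fun a _ => e a, Finset.sum_add_distrib, Finset.sum_sub_distrib,
          Finset.sum_sub_distrib, sum_val, sum_val, sum_val, if_neg h2,
          if_neg (show l⁻¹ ≠ 1 from fun h => hl (MonoidHom.ext fun a => by
            simpa using DFunLike.congr_fun h a))]
        simp [← Nat.card_eq_fintype_card, T.cardA]
        refine if_congr ⟨fun h => MonoidHom.ext fun a => ?_, fun h => MonoidHom.ext fun a => ?_⟩ rfl rfl
        · have := DFunLike.congr_fun h a
          simpa [mul_inv_eq_one] using this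
        · rw [h]; simp
    _ = _ := by
        rw [Finset.sum_add_distrib, ← Finset.sum_filter, Finset.sum_const, Finset.sum_const,
          nsmul_eq_mul, nsmul_eq_mul, Finset.card_univ, ← Nat.card_eq_fintype_card]
        ring

/-- The elements fixing a non-trivial linear character lie in `T.M`. -/
theorem act_eq_self (hk : 1 < T.k) {l : Dual T} (hl : l ≠ 1)
    (n : ↥(Subgroup.normalizer (T.A : Set G))) : act T n l = l ↔ (n : G) ∈ T.M := by
  constructor
  · intro h
    have := T.cyclic
    obtain ⟨g, hg⟩ := IsCyclic.exists_generator (α := ↥T.A)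
    obtain ⟨i, hi⟩ := hg (nConj T n g)
    -- the commutator map is a power map which is not surjective
    obtain ⟨a, ha, hfix⟩ : ∃ a : ↥T.A, a ≠ 1 ∧ nConj T n a = a := by
      by_contra hc
      push Not at hc
      have hinj : Function.Injective fun a : ↥T.A => nConj T n a * a⁻¹ := fun a b hab => by
        by_contra hne
        refine hc (a * b⁻¹) (fun e => hne (mul_inv_eq_one.1 e)) ?_
        let _ : CommGroup ↥T.A := { (inferInstance : Group ↥T.A) with mul_comm := comm_A T }
        rw [map_mul, map_inv, ← div_eq_mul_inv, ← div_eq_mul_inv, ← div_eq_div_iff_div_eq_div,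
          div_eq_mul_inv, div_eq_mul_inv]
        exact hab
      obtain ⟨c, hc'⟩ := (Finite.injective_iff_surjective.1 hinj) g
      have h1 : l g = 1 := by
        rw [← hc', map_mul, map_inv, mul_inv_eq_one]
        exact DFunLike.congr_fun h c
      exact hl (MonoidHom.ext fun a => by
        obtain ⟨j, rfl⟩ := hg a
        simp [map_zpow, h1])
    refine T.cent a a.2 (fun e => ha (Subtype.ext e)) _ ?_
    have := congrArg Subtype.val hfix
    rw [coe_nConj] at this
    exact mul_inv_eq_iff_eq_mul.1 this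
  · intro hn
    refine MonoidHom.ext fun a => congrArg l (Subtype.ext ?_)
    show (n : G) * a * (n : G)⁻¹ = a
    rw [T.comm _ hn _ (T.le a.2), mul_inv_cancel_right]

end CfsgLib.Chev.ReeCover
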