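import Cfsg.Agent.Lib.Chev.ReeCover.Bound

/-!
# Congruences for the degree of an exceptional family from the other tori
-/

set_option autoImplicit false
set_option linter.unusedSectionVars false

namespace CfsgLib.Chev.ReeCover

open CfsgLib.Char
open scoped ComplexConjugate

variable {G : Type*} [Group G] [Fintype G] [Fintype (Cfsg.IrrCharacter G)]
variable {T : TorusData G} (F : Fam T) (T' : TorusData G)

noncomputable local instance {H : Subgroup G} : Fintype ↥H := Fintype.ofFinite _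

theorem notConj (hcop : Nat.Coprime T.k T'.k) {b : ↥T.A} (hb : b ≠ 1) (a : ↥T'.A) :
    ¬ IsConj (b : G) a := by
  intro h
  obtain ⟨g, hg⟩ := isConj_iff.1 h
  have ho : orderOf (a : G) = orderOf (b : G) := by
    rw [← hg]; exact MulEquiv.orderOf_eq (MulAut.conj g) _
  have h1 : orderOf (b : G) ∣ T.k := orderOf_dvd_of_pow_eq_one (T.pow_k b.2)
  have h2 : orderOf (b : G) ∣ T'.k := ho ▸ orderOf_dvd_of_pow_eq_one (T'.pow_k a.2)
  exact hb (Subtype.ext (orderOf_eq_one_iff.1
    (Nat.eq_one_of_dvd_coprimes hcop h1 h2)))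

theorem psi_orth (hcop : Nat.Coprime T.k T'.k) (l : Dual T) (l' : Dual T') :
    ∑ χ : Cfsg.IrrCharacter G, psi T χ l * psi T' χ l' = 0 := by
  classical
  have hk : (T.k : ℂ) * (T'.k : ℂ) ≠ 0 :=
    mul_ne_zero (Nat.cast_ne_zero.2 T.k_pos.ne') (Nat.cast_ne_zero.2 T'.k_pos.ne')
  have hconj : ∀ χ : Cfsg.IrrCharacter G, (T'.k : ℂ) * psi T' χ l' =
      ∑ b : ↥T'.A, conj ((χ : G → ℂ) b) * (val l' b - 1) := fun χ => by
    have h := congrArg conj (psi_spec T' χ l')
    simpa [map_sum] using h.symm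
  have : ((∑ χ : Cfsg.IrrCharacter G, psi T χ l * psi T' χ l' : ℤ) : ℂ) = 0 := by
    refine (mul_eq_zero.1 (show (T.k : ℂ) * (T'.k : ℂ) * _ = 0 from ?_)).resolve_left hk
    push_cast
    rw [Finset.mul_sum, Finset.sum_congr rfl fun χ _ => by
      rw [show (T.k : ℂ) * (T'.k : ℂ) * ((psi T χ l : ℂ) * psi T' χ l') =
        ((T.k : ℂ) * psi T χ l) * ((T'.k : ℂ) * psi T' χ l') by ring, ← psi_spec, hconj, Finset.sum_mul_sum],
      Finset.sum_comm]
    refine Finset.sum_eq_zero fun a _ => ?_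
    rw [Finset.sum_comm]
    refine Finset.sum_eq_zero fun b _ => ?_
    by_cases ha : a = 1
    · subst ha; simp [val]
    rw [Finset.sum_congr rfl (g := fun χ : Cfsg.IrrCharacter G => (conj (val l a) - 1) * (val l' b - 1) *
      ((χ : G → ℂ) a * conj ((χ : G → ℂ) b))) fun χ _ => by ring, ← Finset.mul_sum,
      column_orthogonality, if_neg (notConj T' hcop ha b), mul_zero]
  exact_mod_cast this

theorem psi_exc (hcop : Nat.Coprime T.k T'.k) (l : Dual T') (i i' : Fin F.n) :
    psi T' (F.Θ i) l = psi T' (F.Θ i') l := by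
  have h : (T'.k : ℂ) * psi T' (F.Θ i) l = (T'.k : ℂ) * psi T' (F.Θ i') l := by
    rw [← psi_spec, ← psi_spec]
    exact Finset.sum_congr rfl fun a _ => by rw [F.const a fun b hb => notConj T' hcop hb a]
  exact_mod_cast mul_left_cancel₀ (Nat.cast_ne_zero.2 T'.k_pos.ne') h

theorem norm_eq (hk : 1 < T'.k) (hcop : Nat.Coprime T.k T'.k) {l : Dual T'} (hl : l ≠ 1) (i : Fin F.n) :
    1 + (∑ χ ∈ F.rest, psi T' χ l * psi T' χ l + (F.n : ℤ) * (psi T' (F.Θ i) l * psi T' (F.Θ i) l)) =
      (T'.c * (T'.w + 1) : ℤ) := by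
  classical
  have h := gram_eq T' hk l l hl hl
  rw [if_pos ⟨1, act_one T' l⟩, F.split_all fun χ => psi T' χ l * psi T' χ l, psi_oneIrr T' hl,
    Finset.sum_congr (s₁ := (Finset.univ : Finset (Fin F.n))) rfl
      (fun i' _ => by rw [psi_exc F T' hcop l i' i])] at h
  simp only [Finset.sum_const, Finset.card_univ, Fintype.card_fin, nsmul_eq_mul] at h
  rw [mul_add (T'.c : ℤ), mul_one]
  linarith

theorem bound (hk : 1 < T'.k) (hcop : Nat.Coprime T.k T'.k) {l : Dual T'} (hl : l ≠ 1) (i : Fin F.n) :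
    1 + (F.n : ℤ) * (psi T' (F.Θ i) l * psi T' (F.Θ i) l) ≤ (T'.c * (T'.w + 1) : ℤ) := by
  have h := norm_eq F T' hk hcop hl i
  have h0 : 0 ≤ ∑ χ ∈ F.rest, psi T' χ l * psi T' χ l := Finset.sum_nonneg fun χ _ => mul_self_nonneg _
  linarith

theorem deg_eq_sum [Fintype (Dual T')] (i : Fin F.n) :
    (F.D : ℤ) = (T'.k : ℤ) * mult T' (F.Θ i) 1 + ∑ l : Dual T', psi T' (F.Θ i) l := by
  classical
  have h := sum_mult T' (F.Θ i)
  rw [F.deg] at h
  have h' : (F.D : ℤ) = ∑ l : Dual T', mult T' (F.Θ i) l := by exact_mod_cast h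
  simp only [psi, Finset.sum_sub_distrib, Finset.sum_const, nsmul_eq_mul, Finset.card_univ,
    ← Nat.card_eq_fintype_card, card_dual]
  linarith

/-- A torus with a short Gram diagonal divides the degree. -/
theorem dvd_of_small (hk : 1 < T'.k) (hcop : Nat.Coprime T.k T'.k) (hn : 0 < F.n)
    (hsmall : T'.c * (T'.w + 1) ≤ F.n) : T'.k ∣ F.D := by
  classical
  have := finite_dual T'
  have := Fintype.ofFinite (Dual T')
  let i : Fin F.n := ⟨0, hn⟩
  have hz : ∀ l : Dual T', psi T' (F.Θ i) l = 0 := fun l => by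
    by_cases hl : l = 1
    · subst hl; exact psi_one T' _
    · have h := bound F T' hk hcop hl i
      have h' : ((T'.c * (T'.w + 1) : ℕ) : ℤ) ≤ (F.n : ℤ) := by exact_mod_cast hsmall
      push_cast at h'
      by_contra hne
      have : 1 ≤ psi T' (F.Θ i) l * psi T' (F.Θ i) l := by
        have := mul_self_pos.2 hne
        omega
      have hn' : (1 : ℤ) ≤ F.n := by exact_mod_cast hn
      nlinarith
  have h := deg_eq_sum F T' i
  simp only [hz, Finset.sum_const_zero, add_zero] at h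
  exact Int.natCast_dvd_natCast.1 ⟨_, h⟩

/-- When the normaliser is transitive on the non-trivial linear characters. -/
theorem psi_const_of_w (hw : T'.w + 1 = T'.k) (hk : 1 < T'.k) (χ : Cfsg.IrrCharacter G) {l l' : Dual T'}
    (hl : l ≠ 1) (hl' : l' ≠ 1) : psi T' χ l = psi T' χ l' := by
  classical
  have := finite_dual T'
  have := Fintype.ofFinite (Dual T')
  have hc : 0 < T'.c := Nat.pos_of_ne_zero fun h => by
    have := T'.cardM
    rw [h, zero_mul] at this
    exact Nat.card_pos.ne' this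
  have h := Finset.card_eq_sum_card_image (fun n => act T' n l) Finset.univ
  rw [Finset.card_univ, ← Nat.card_eq_fintype_card, T'.cardN,
    Finset.sum_congr rfl (g := fun _ => T'.c * T'.k) fun m hm => by
      rw [card_act_eq T' hk hl, if_pos]
      obtain ⟨n, -, hn⟩ := Finset.mem_image.1 hm
      exact ⟨n, hn⟩,
    Finset.sum_const, smul_eq_mul] at h
  have h' := (Nat.eq_of_mul_eq_mul_right (Nat.mul_pos hc T'.k_pos) h).symm
  have himg : Finset.univ.image (fun n => act T' n l) = Finset.univ.erase (1 : Dual T') := by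
    refine Finset.eq_of_subset_of_card_le (fun m hm => ?_) ?_
    · obtain ⟨n, -, rfl⟩ := Finset.mem_image.1 hm
      refine Finset.mem_erase.2 ⟨fun e => hl (MonoidHom.ext fun a => ?_), Finset.mem_univ _⟩
      simpa [act] using DFunLike.congr_fun e ((nConj T' n).symm a)
    · rw [Finset.card_erase_of_mem (Finset.mem_univ _), Finset.card_univ, h', ← Nat.card_eq_fintype_card,
        card_dual]
      omega
  obtain ⟨n, -, hn⟩ := Finset.mem_image.1 (himg ▸ Finset.mem_erase.2 ⟨hl', Finset.mem_univ l'⟩ :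
    l' ∈ Finset.univ.image fun n => act T' n l)
  rw [← hn, psi_act]

/-- The trivial rest forces a linear relation among the degrees. -/
theorem rho_pos (hD : 2 ≤ F.D) (hn : 0 < F.n) : 0 < F.rho := by
  classical
  refine lt_of_le_of_ne F.rho_nonneg fun h0 => ?_
  have hz : ∀ χ ∈ F.rest, F.R χ = 0 := fun χ hχ =>
    mul_self_eq_zero.1 ((Finset.sum_eq_zero_iff_of_nonneg fun χ _ => mul_self_nonneg (F.R χ)).1
      (F.sum_rest.trans h0.symm) χ hχ)
  have hcol : ∑ χ : Cfsg.IrrCharacter G, psi T χ 1 * (0 : ℤ) = 0 := by simp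
  -- the column of the identity
  have hone : ∀ a : ↥T.A, a ≠ 1 → (∑ χ : Cfsg.IrrCharacter G, (χ : G → ℂ) a * conj ((χ : G → ℂ) 1)) = 0 :=
    fun a ha => by
      rw [column_orthogonality, if_neg]
      exact fun hc => ha (Subtype.ext (isConj_one_left.1 hc))
  obtain ⟨a, ha⟩ : ∃ a : ↥T.A, a ≠ 1 := by
    have hcard : 1 < Nat.card ↥T.A := by rw [T.cardA, ← F.card]; omega
    have := Finite.one_lt_card_iff_nontrivial.1 hcard
    exact exists_ne 1
  have h := hone a ha
  rw [F.split_all, Finset.sum_congr (s₁ := F.rest) rfl (g := fun _ => (0 : ℂ)) fun χ hχ => by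
    rw [F.value χ (fun ⟨i, hi⟩ => (Finset.mem_sdiff.1 hχ).2 (Finset.mem_image.2 ⟨i, Finset.mem_univ _, hi⟩)) a ha,
      hz χ hχ]; simp] at h
  simp only [Finset.sum_const_zero, zero_add, F.deg, Complex.conj_natCast, ← Finset.sum_mul] at h
  simp only [oneIrr, map_one, mul_one] at h
  -- the exceptional values sum to an algebraic integer
  have hint : IsIntegral ℤ (∑ i, (F.Θ i : G → ℂ) a) := IsIntegral.sum _ fun i _ => BlockB.irr_isIntegral _ _
  have hD0 : (F.D : ℂ) ≠ 0 := Nat.cast_ne_zero.2 (by omega)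
  have hq : (∑ i, (F.Θ i : G → ℂ) a) = ((-(1 / F.D : ℚ) : ℚ) : ℂ) := by
    push_cast
    field_simp
    linear_combination h
  rw [hq] at hint
  have hint' : IsIntegral ℤ (algebraMap ℚ ℂ (-(1 / F.D : ℚ))) := by rw [eq_ratCast]; exact hint
  obtain ⟨z, hz'⟩ := IsIntegrallyClosed.isIntegral_iff.1
    ((isIntegral_algebraMap_iff (algebraMap ℚ ℂ).injective).1 hint')
  have hz2 : ((z * F.D : ℤ) : ℚ) = -1 := by
    push_cast
    rw [show (z : ℚ) = algebraMap ℤ ℚ z from rfl, hz']
    field_simp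
  have hz3 : z * (F.D : ℤ) = -1 := by exact_mod_cast hz2
  have := Int.eq_one_or_neg_one_of_mul_eq_neg_one hz3
  rcases this with rfl | rfl <;> omega

end CfsgLib.Chev.ReeCover
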