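import Cfsg.Agent.Lib.Chev.ReeCover.Secondary
import Cfsg.Agent.Lib.Chev.ReeTori
import Cfsg.Agent.Lib.Chev.ReeMinDegree

/-!
# Products of two conjugates of an element of a Singer torus of ²G₂(q)
-/

set_option autoImplicit false
set_option maxHeartbeats 800000
set_option maxRecDepth 100000
set_option linter.unusedSectionVars false

namespace CfsgLib.Chev

open Cfsg.Lie
open CfsgLib.Char

namespace ReeCover

theorem eq_oneIrr_of_trivial {G : Type*} [Group G] [Fintype G] {N : ℕ}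
    (ρ : Representation ℂ G (Fin N → ℂ)) (hρ : ρ.IsIrreducible) (h : ∀ g, ρ g = 1) :
    ρ.character = fun _ => 1 := by
  have hval : ρ.character = fun _ => (N : ℂ) := funext fun g => by
    show LinearMap.trace ℂ _ (ρ g) = _
    rw [h, LinearMap.trace_one, Module.finrank_fin_fun]
  have h1 := irr_classInner_self (G := G) (χ := ρ.character) ⟨_, ρ, hρ, rfl⟩
  rw [hval, classInner_def] at h1
  simp only [Complex.conj_natCast, Finset.sum_const, Finset.card_univ, ← Nat.card_eq_fintype_card,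
    nsmul_eq_mul] at h1
  rw [← mul_assoc, inv_mul_cancel₀ natCard_ne_zero, one_mul] at h1
  have : N * N = 1 := by exact_mod_cast h1
  rw [hval, Nat.eq_one_of_mul_eq_one_right this, Nat.cast_one]

/-- The divisors of `|²G₂(27)|` relevant to the torus of order 19. -/
theorem check_nineteen_list : ((List.range 2000).filter fun D =>
    decide (703 ≤ D) && (10073444472 % D == 0) && [6, 7, 12, 13].contains (D % 19) &&
      [0, 1, 36].contains (D % 37) && [0, 1, 2, 5, 6].contains (D % 7)) = [] := by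
  decide +kernel

theorem check_nineteen {D : ℕ} (h : D < 2000) (hd : D ∣ 10073444472)
    (h19 : D % 19 = 6 ∨ D % 19 = 7 ∨ D % 19 = 12 ∨ D % 19 = 13)
    (h37 : D % 37 = 0 ∨ D % 37 = 1 ∨ D % 37 = 36)
    (h7 : D % 7 = 0 ∨ D % 7 = 1 ∨ D % 7 = 2 ∨ D % 7 = 5 ∨ D % 7 = 6) : D < 703 := by
  by_contra hge
  have hm := (List.filter_eq_nil_iff.1 check_nineteen_list) D (List.mem_range.2 h)
  refine hm ?_
  simp [Nat.mod_eq_zero_of_dvd, Nat.dvd_iff_mod_eq_zero.1 hd, h19, h37, h7]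
  omega

/-- The divisors of `|²G₂(27)|` relevant to the torus of order 37. -/
theorem check_thirtyseven_list : ((List.range 4000).filter fun D =>
    decide (703 ≤ D) && (10073444472 % D == 0) && [6, 7, 30, 31].contains (D % 37) &&
      (D % 13 == 0)) = [] := by
  decide +kernel

theorem check_thirtyseven {D : ℕ} (h : D < 4000) (hd : D ∣ 10073444472)
    (h37 : D % 37 = 6 ∨ D % 37 = 7 ∨ D % 37 = 30 ∨ D % 37 = 31) (h13 : D % 13 = 0) : D < 703 := by
  by_contra hge
  have hm := (List.filter_eq_nil_iff.1 check_thirtyseven_list) D (List.mem_range.2 h)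
  refine hm ?_
  simp [Nat.dvd_iff_mod_eq_zero.1 hd, h37, h13]
  omega

/-- The product of the three other torus orders. -/
theorem prod_bound {q a b c : ℕ} (hq : 243 ≤ q) (e1 : 3 * (q - 1) ≤ 7 * a) (e2 : q + 1 ≤ 4 * b)
    (e3 : 7 * q ≤ 8 * c) : q ^ 3 ≤ 12 * (a * b * c) := by
  have h1 : 3 * (q - 1) * (q + 1) * (7 * q) ≤ 7 * a * (4 * b) * (8 * c) :=
    Nat.mul_le_mul (Nat.mul_le_mul e1 e2) e3
  obtain ⟨p, rfl⟩ : ∃ p, q = p + 1 := ⟨q - 1, by omega⟩
  rw [Nat.add_sub_cancel] at h1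
  have hp : 242 ≤ p := by omega
  have h3 : 224 * (p + 1) ^ 2 ≤ 252 * (p * (p + 2)) := by nlinarith
  have h2 := Nat.mul_le_mul_right (p + 1) h3
  nlinarith

/-- The estimate for `q ≥ 243`. -/
theorem big_numeric {q n D : ℝ} (hQ : 243 ≤ q) (hn0 : 36 ≤ n) (hD10 : q ^ 3 ≤ 12 * D) :
    q ^ 3 * (17 / (q ^ 2 - q + 1) ^ 2 + (2 * q) ^ 2 / (n * D ^ 2)) < 1 := by
  have hq0 : 0 < q := by linarith
  have hd0 : q ^ 2 / 2 ≤ q ^ 2 - q + 1 := by nlinarith
  have hd0' : 0 < q ^ 2 / 2 := by positivity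
  have hD0 : 0 < q ^ 3 / 12 := by positivity
  have t1 : q ^ 3 * (17 / (q ^ 2 - q + 1) ^ 2) ≤ 68 / q := by
    refine (mul_le_mul_of_nonneg_left (div_le_div_of_nonneg_left (by norm_num) (by positivity)
      (pow_le_pow_left₀ hd0'.le hd0 2)) (by positivity)).trans (le_of_eq ?_)
    field_simp
    ring
  have t2 : q ^ 3 * ((2 * q) ^ 2 / (n * D ^ 2)) ≤ 16 / q := by
    refine (mul_le_mul_of_nonneg_left (div_le_div_of_nonneg_left (by positivity) (by positivity)
      (mul_le_mul hn0 (pow_le_pow_left₀ hD0.le (by linarith : q ^ 3 / 12 ≤ D) 2) (by positivity) (by linarith)))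
      (by positivity)).trans (le_of_eq ?_)
    field_simp
    ring
  have t3 : 68 / q + 16 / q < 1 := by
    rw [← add_div, div_lt_one hq0]; linarith
  rw [mul_add]
  linarith

variable {G : Type*} [Group G] [Fintype G] [Fintype (Cfsg.IrrCharacter G)]
variable {T : TorusData G} (F : Fam T)

theorem j_cases (hρ : 0 < F.rho) (hn : 3 ≤ F.n) :
    (F.j = 0 ∧ F.rho = 5) ∨ (F.j = -F.ε ∧ F.rho = 7 - (F.n : ℤ)) := by
  have hn' : (3 : ℤ) ≤ F.n := by exact_mod_cast hn
  rcases F.sign with hε | hε <;> simp only [Fam.rho, hε] at hρ ⊢ <;>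
    rcases (show F.j = 0 ∨ F.j = 1 ∨ F.j = -1 by
      have h1 : -1 ≤ F.j := by nlinarith
      have h2 : F.j ≤ 1 := by nlinarith
      omega) with hj | hj | hj <;> rw [hj] at hρ ⊢ <;> omega

theorem residue {p : ℕ} (hk : T.k = p) (hρ : 0 < F.rho) (hn : 3 ≤ F.n) :
    ((p : ℤ) ∣ (F.D : ℤ) - 6) ∨ ((p : ℤ) ∣ (F.D : ℤ) + 6) ∨ ((p : ℤ) ∣ (F.D : ℤ) - 7) ∨
      ((p : ℤ) ∣ (F.D : ℤ) + 7) := by
  have h := F.cong
  rw [hk] at h
  rcases j_cases F hρ hn with ⟨hj, -⟩ | ⟨hj, -⟩ <;> rcases F.sign with hε | hε <;>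
    simp only [hj, hε] at h <;> norm_num at h
  · exact Or.inl h
  · exact Or.inr (Or.inl (by simpa using h))
  · exact Or.inr (Or.inr (Or.inl h))
  · exact Or.inr (Or.inr (Or.inr (by simpa using h)))

/-- The degree modulo a torus on which the family has constant bounded multiplicities. -/
theorem residue_of_bounded (T' : TorusData G) (i : Fin F.n) (v : ℤ)
    (h : ∀ l : Dual T', l ≠ 1 → psi T' (F.Θ i) l = v) : (T'.k : ℤ) ∣ (F.D : ℤ) + v := by
  classical
  have := finite_dual T'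
  have := Fintype.ofFinite (Dual T')
  have hsum : ∑ l : Dual T', psi T' (F.Θ i) l = ((T'.k : ℤ) - 1) * v := by
    rw [← Finset.add_sum_erase _ _ (Finset.mem_univ (1 : Dual T')), psi_one, zero_add,
      Finset.sum_congr rfl fun l hl => h l (Finset.ne_of_mem_erase hl), Finset.sum_const, nsmul_eq_mul,
      Finset.card_erase_of_mem (Finset.mem_univ _), Finset.card_univ, ← Nat.card_eq_fintype_card, card_dual,
      Nat.cast_sub T'.k_pos, Nat.cast_one]
  refine ⟨mult T' (F.Θ i) 1 + v, ?_⟩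
  rw [deg_eq_sum F T' i, hsum]
  ring

/-- The multiplicities on a second self-centralising torus are constant. -/
theorem const_of_fam (T' : TorusData G) (F' : Fam T') (hcop : Nat.Coprime T.k T'.k) (hn : 2 ≤ F.n)
    (hn' : 2 ≤ F'.n) (i : Fin F.n) : ∀ l : Dual T', l ≠ 1 → psi T' (F.Θ i) l = F'.R (F.Θ i) := by
  intro l hl
  refine F'.psiRest _ (fun ⟨o, ho⟩ => ?_) l hl
  obtain ⟨i', hi'⟩ : ∃ i' : Fin F.n, i' ≠ i := by
    have : Nontrivial (Fin F.n) := Fin.nontrivial_iff_two_le.2 hn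
    exact exists_ne i
  by_cases hmem : F.Θ i' ∈ Set.range F'.Θ
  · obtain ⟨o', ho'⟩ := hmem
    have hne : o ≠ o' := fun e => hi' (F.inj (by rw [← ho', ← ho, e]))
    obtain ⟨l₁, -, -, -, h1, -⟩ := F'.distinct o o' hne
    rw [ho, ho'] at h1
    exact h1 (psi_exc F T' hcop l₁ i i')
  · obtain ⟨o', hne⟩ : ∃ o', o' ≠ o := by
      have : Nontrivial (Fin F'.n) := Fin.nontrivial_iff_two_le.2 hn'
      exact exists_ne o
    obtain ⟨l₁, l₂, h1, h2, -, h3⟩ := F'.distinct o o' hne.symm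
    rw [ho, psi_exc F T' hcop l₁ i i', psi_exc F T' hcop l₂ i i', F'.psiRest _ hmem l₁ h1,
      F'.psiRest _ hmem l₂ h2] at h3
    exact h3 rfl

end ReeCover

namespace SetupG2

open ReeCover

variable {K : Type*} [Field K] [Fintype K] {m : ℕ} (S : SetupG2 K m)
include S

/-- The minimal degree, as a bound on character values. -/
theorem degBound (hm : 1 ≤ m) [Fintype ↥(twistedG2 K (3 ^ m))]
    [Fintype (Cfsg.IrrCharacter ↥(twistedG2 K (3 ^ m)))] :
    DegBound ↥(twistedG2 K (3 ^ m)) (((3 ^ (2 * m + 1)) ^ 2 - 3 ^ (2 * m + 1) + 1 : ℕ) : ℝ) := by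
  refine ⟨by positivity, fun χ hχ => ?_⟩
  obtain ⟨χ, N, ρ, hρ, rfl⟩ := χ
  by_cases hne : ∃ g, ρ g ≠ 1
  · have h := S.min_degree hm ρ hne
    show _ ≤ ‖ρ.character 1‖
    rw [Representation.char_one, Complex.norm_natCast]
    exact Nat.cast_le.2 h
  · push Not at hne
    exact absurd (Subtype.ext (eq_oneIrr_of_trivial ρ hρ hne)) hχ

/-- Elements of order two and three against a Singer torus. -/
theorem singer_big (hm : 1 ≤ m) (T : TorusData ↥(twistedG2 K (3 ^ m))) {N : ℕ}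
    (hN : N = 3 ^ (2 * m + 1) - 3 ^ (m + 1) + 1 ∨ N = 3 ^ (2 * m + 1) + 3 ^ (m + 1) + 1)
    (hk : T.k = N) (hc : T.c = 1) (hw : T.w = 6) {a : ↥T.A} (ha : a ≠ 1)
    {g : ↥(twistedG2 K (3 ^ m))} (hg : orderOf g = 2 ∨ orderOf g = 3)
    (hC : Nat.card ↥(Subgroup.centralizer ({g} : Set ↥(twistedG2 K (3 ^ m)))) ≤ (3 ^ (2 * m + 1)) ^ 3) :
    ∃ u v : ↥(twistedG2 K (3 ^ m)), g = (u * (a : ↥(twistedG2 K (3 ^ m))) * u⁻¹) *
      (v * (a : ↥(twistedG2 K (3 ^ m))) * v⁻¹) := by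
  classical
  have := Fintype.ofFinite ↥(twistedG2 K (3 ^ m))
  have := Fintype.ofFinite (Cfsg.IrrCharacter ↥(twistedG2 K (3 ^ m)))
  obtain ⟨hq27, hr9, hrr, h3q, hqodd, h3r⟩ := S.arith hm
  obtain ⟨N', hNN, hN'⟩ : ∃ N',
      ((N = 3 ^ (2 * m + 1) - 3 ^ (m + 1) + 1 ∧ N' = 3 ^ (2 * m + 1) + 3 ^ (m + 1) + 1) ∨
      (N' = 3 ^ (2 * m + 1) - 3 ^ (m + 1) + 1 ∧ N = 3 ^ (2 * m + 1) + 3 ^ (m + 1) + 1)) ∧
      (N' = 3 ^ (2 * m + 1) - 3 ^ (m + 1) + 1 ∨ N' = 3 ^ (2 * m + 1) + 3 ^ (m + 1) + 1) := by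
    rcases hN with h | h
    · exact ⟨_, Or.inl ⟨h, rfl⟩, Or.inr rfl⟩
    · exact ⟨_, Or.inr ⟨rfl, h⟩, Or.inl rfl⟩
  obtain ⟨hprod, hco, hN19⟩ := S.singer_orders hm hNN
  -- the primes of the torus
  have hcop : ∀ e : ℕ, (∀ l : ℕ, l.Prime → l ∣ N → ¬ l ∣ e) → Nat.Coprime N e := fun e h =>
    Nat.coprime_of_dvd fun l hl h1 h2 => h l hl h1 h2
  have hprime : ∀ l : ℕ, l.Prime → l ∣ N → 7 ≤ l ∧ ¬ l ∣ 3 ^ (2 * m + 1) - 1 ∧ ¬ l ∣ 3 ^ (2 * m + 1) + 1 := by
    intro l hl hd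
    obtain ⟨-, h7, h1, h2, -⟩ := S.singer_prime hm hl (hprod ▸ hd.mul_right N')
    exact ⟨h7, h1, h2⟩
  have hgT : ∀ b : ↥T.A, b ≠ 1 → ¬ IsConj (b : ↥(twistedG2 K (3 ^ m))) g := by
    intro b hb hcj
    obtain ⟨z, hz⟩ := isConj_iff.1 hcj
    have ho : orderOf g = orderOf (b : ↥(twistedG2 K (3 ^ m))) := by
      rw [← hz]; exact MulEquiv.orderOf_eq (MulAut.conj z) _
    have hd : orderOf g ∣ N := hk ▸ ho ▸ orderOf_dvd_of_pow_eq_one (T.pow_k b.2)
    rcases hg with h | h <;> rw [h] at hd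
    · have := (hprime 2 Nat.prime_two hd).1; omega
    · have := (hprime 3 Nat.prime_three hd).1; omega
  obtain ⟨F⟩ := exists_fam T hc hw (by omega)
  have hn : 6 * F.n + 1 = N := hk ▸ F.card
  have hn3 : 3 ≤ F.n := by omega
  let i₀ : Fin F.n := ⟨0, by omega⟩
  have hd := S.degBound hm
  have hDd : (3 ^ (2 * m + 1)) ^ 2 - 3 ^ (2 * m + 1) + 1 ≤ F.D := by
    have h := hd.2 (F.Θ i₀) fun e => F.notMem ⟨i₀, e⟩
    rw [F.deg, Complex.norm_natCast] at h
    exact_mod_cast h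
  have hq2 : 3 ^ (2 * m + 1) * 27 ≤ (3 ^ (2 * m + 1)) ^ 2 := by rw [sq]; exact Nat.mul_le_mul_left _ hq27
  have hρ := rho_pos F (by omega) (by omega)
  have hDdvd : F.D ∣ Nat.card ↥(twistedG2 K (3 ^ m)) := by
    have h := BlockB.irr_degree_cast (F.Θ i₀)
    rw [F.deg] at h
    exact (show F.D = _ from (by exact_mod_cast h.symm)) ▸ BlockB.irr_degree_dvd_card (F.Θ i₀)
  obtain ⟨Ts, hsk, hsc, hsw, -⟩ := S.torusData_split hm
  obtain ⟨Tk, hkk, hkc, hkw, -⟩ := S.torusData_klein hm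
  obtain ⟨T', h'k, h'c, h'w⟩ := S.torusData_singer hm hN'
  have h8 := S.q_mod
  have hcs : Nat.Coprime T.k Ts.k := hk.symm ▸ hsk.symm ▸ hcop _ fun l hl h1 h2 =>
    (hprime l hl h1).2.1 (h2.trans ⟨2, by omega⟩)
  have hck : Nat.Coprime T.k Tk.k := hk.symm ▸ hkk.symm ▸ hcop _ fun l hl h1 h2 =>
    (hprime l hl h1).2.2 (h2.trans ⟨4, by omega⟩)
  have hc' : Nat.Coprime T.k T'.k := hk.symm ▸ h'k.symm ▸ hco
  rcases (show m = 1 ∨ 2 ≤ m by omega) with rfl | hm2
  · -- q = 27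
    norm_num at hN hN' hsk hkk hDd
    have hcard : Nat.card ↥(twistedG2 K (3 ^ 1)) = 10073444472 := by
      rw [S.card_factor]; norm_num
    rw [hcard] at hDdvd
    rcases hN with rfl | rfl
    · -- the torus of order 19
      have hn' : F.n = 3 := by omega
      have hN'37 : N' = 37 := by
        rcases hN' with rfl | rfl
        · norm_num at hco
        · rfl
      subst hN'37
      obtain ⟨F'⟩ := exists_fam T' h'c h'w (by omega)
      have hn6 : F'.n = 6 := by have := F'.card; omega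
      -- the congruence modulo 37
      have hv' : ((37 : ℕ) : ℤ) ∣ (F.D : ℤ) + F'.R (F.Θ i₀) ∧ -1 ≤ F'.R (F.Θ i₀) ∧ F'.R (F.Θ i₀) ≤ 1 := by
        have hconst := const_of_fam F T' F' hc' (by omega) (by omega) i₀
        obtain ⟨l, hl⟩ : ∃ l : Dual T', l ≠ 1 := by
          have := finite_dual T'
          have : Nontrivial (Dual T') := Finite.one_lt_card_iff_nontrivial.1 (by rw [card_dual]; omega)
          exact exists_ne 1
        have hb := bound F T' (by omega) hc' hl i₀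
        rw [hconst l hl, h'c, h'w, hn'] at hb
        push_cast at hb
        refine ⟨h'k ▸ residue_of_bounded F T' i₀ _ hconst, by nlinarith, by nlinarith⟩
      -- the congruence modulo 7
      have hv : ∃ v : ℤ, ((7 : ℕ) : ℤ) ∣ (F.D : ℤ) + v ∧ -2 ≤ v ∧ v ≤ 2 := by
        obtain ⟨l, hl⟩ : ∃ l : Dual Tk, l ≠ 1 := by
          have := finite_dual Tk
          have : Nontrivial (Dual Tk) := Finite.one_lt_card_iff_nontrivial.1 (by rw [card_dual]; omega)
          exact exists_ne 1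
        set v := ReeCover.psi Tk (F.Θ i₀) l with hv
        have hconst : ∀ l' : Dual Tk, l' ≠ 1 → ReeCover.psi Tk (F.Θ i₀) l' = v := fun l' hl' =>
          psi_const_of_w Tk (by omega) (by omega) _ hl' hl
        have hb := norm_eq F Tk (by omega) hck hl i₀
        rw [← hv, hkc, hkw, hn'] at hb
        push_cast at hb
        have h0 : 0 ≤ ∑ χ ∈ F.rest, ReeCover.psi Tk χ l * ReeCover.psi Tk χ l := Finset.sum_nonneg fun χ _ => mul_self_nonneg _
        refine ⟨v, hkk ▸ residue_of_bounded F Tk i₀ _ hconst, ?_⟩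
        by_contra hbig
        have h9 : 9 ≤ v * v := by
          rcases not_and_or.1 hbig with h | h <;> nlinarith
        have hS : ∑ χ ∈ F.rest, ReeCover.psi Tk χ l * ReeCover.psi Tk χ l = 0 := by
          generalize ∑ χ ∈ F.rest, ReeCover.psi Tk χ l * ReeCover.psi Tk χ l = S at hb h0 ⊢
          omega
        have hrest : ∀ χ ∈ F.rest, ReeCover.psi Tk χ l = 0 := fun χ hχ =>
          mul_self_eq_zero.1 ((Finset.sum_eq_zero_iff_of_nonneg fun χ _ => mul_self_nonneg (ReeCover.psi Tk χ l)).1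
            hS χ hχ)
        obtain ⟨lT, hlT⟩ : ∃ lT : Dual T, lT ≠ 1 := by
          have := finite_dual T
          have : Nontrivial (Dual T) := Finite.one_lt_card_iff_nontrivial.1 (by rw [card_dual]; omega)
          exact exists_ne 1
        have ho := psi_orth (T := T) Tk hck lT l
        rw [F.split_all fun χ => ReeCover.psi T χ lT * ReeCover.psi Tk χ l, psi_oneIrr T hlT, psi_oneIrr Tk hl,
          Finset.sum_eq_zero (s := F.rest) fun χ hχ => by rw [hrest χ hχ, mul_zero],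
          Finset.sum_congr (s₁ := (Finset.univ : Finset (Fin F.n))) rfl
            (fun i _ => by rw [psi_exc F Tk hck l i i₀, ← hv]), ← Finset.sum_mul] at ho
        have hu : (∑ i, ReeCover.psi T (F.Θ i) lT) * v = -1 := by linarith
        rcases Int.eq_one_or_neg_one_of_mul_eq_neg_one' hu with ⟨-, h⟩ | ⟨-, h⟩ <;> rw [h] at h9 <;> omega
      obtain ⟨v, h7, hv1, hv2⟩ := hv
      obtain ⟨h37, hv'1, hv'2⟩ := hv'
      have hres := residue F hk hρ hn3
      have hD : 2000 ≤ F.D := by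
        by_contra hlt
        have := check_nineteen (not_le.1 hlt) hDdvd (by norm_num at hres; omega)
          (by norm_num at h37; omega) (by norm_num at h7; omega)
        omega
      refine F.two_conj hc hd ha hgT (C := 19683) (W := 14) (by exact_mod_cast hC.trans_eq (show (3 ^ (2 * 1 + 1)) ^ 3 = 19683 by norm_num)) ?_ (by omega) ?_ ?_
      · rcases j_cases F hρ hn3 with ⟨-, h⟩ | ⟨-, h⟩ <;> omega
      · rw [hk]
        rcases j_cases F hρ hn3 with ⟨-, h⟩ | ⟨-, h⟩ <;> rw [h] <;> push_cast [hn'] <;> norm_num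
      · rw [hn']
        have hD' : (2000 : ℝ) ≤ F.D := by exact_mod_cast hD
        have h2 : (14 : ℝ) ^ 2 / (3 * (F.D : ℝ) ^ 2) ≤ 14 ^ 2 / (3 * 2000 ^ 2) := by gcongr
        norm_num at h2 ⊢
        linarith
    · -- the torus of order 37
      have hn' : F.n = 6 := by omega
      have h13 : 13 ∣ F.D := hsk ▸ dvd_of_small F Ts (by omega) hcs (by omega) (by rw [hsc, hsw, hn'])
      have hres := residue F hk hρ hn3
      have hD : 4000 ≤ F.D := by
        by_contra hlt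
        have := check_thirtyseven (not_le.1 hlt) hDdvd (by norm_num at hres; omega) (by omega)
        omega
      refine F.two_conj hc hd ha hgT (C := 19683) (W := 35) (by exact_mod_cast hC.trans_eq (show (3 ^ (2 * 1 + 1)) ^ 3 = 19683 by norm_num)) ?_ (by omega) ?_ ?_
      · rcases j_cases F hρ hn3 with ⟨-, h⟩ | ⟨-, h⟩ <;> omega
      · rw [hk]
        rcases j_cases F hρ hn3 with ⟨-, h⟩ | ⟨-, h⟩ <;> rw [h] <;> push_cast [hn'] <;> norm_num
      · rw [hn']
        have hD' : (4000 : ℝ) ≤ F.D := by exact_mod_cast hD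
        have h2 : (35 : ℝ) ^ 2 / (6 * (F.D : ℝ) ^ 2) ≤ 35 ^ 2 / (6 * 4000 ^ 2) := by gcongr
        norm_num at h2 ⊢
        linarith
  · -- q at least 243
    set q := 3 ^ (2 * m + 1) with hq
    set r := 3 ^ (m + 1) with hr
    have hq243 : 243 ≤ q := le_trans (by norm_num : 243 ≤ 3 ^ 5) (Nat.pow_le_pow_right (by norm_num) (by omega))
    have hr9' : 9 * r ≤ q := by
      rw [hq, hr, show 9 * 3 ^ (m + 1) = 3 ^ (m + 3) by ring]
      exact Nat.pow_le_pow_right (by norm_num) (by omega)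
    have hn36 : 36 ≤ F.n := by rcases hN with h | h <;> omega
    have d1 := dvd_of_small F Ts (by omega) hcs (by omega) (by rw [hsc, hsw]; omega)
    have d2 := dvd_of_small F Tk (by omega) hck (by omega) (by rw [hkc, hkw]; omega)
    have d3 := dvd_of_small F T' (by omega) hc' (by omega) (by rw [h'c, h'w]; omega)
    have c12 : Nat.Coprime Ts.k Tk.k := by
      refine Nat.coprime_of_dvd fun l hl h1 h2 => ?_
      have := Nat.dvd_sub ((h2.trans (show Tk.k ∣ q + 1 from ⟨4, by omega⟩)))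
        (h1.trans (show Ts.k ∣ q - 1 from ⟨2, by omega⟩))
      rw [show q + 1 - (q - 1) = 2 by omega] at this
      rw [(Nat.prime_dvd_prime_iff_eq hl Nat.prime_two).1 this] at h1
      exact absurd (Ts.odd.of_dvd_nat h1) (by decide)
    have c3 : Nat.Coprime (Ts.k * Tk.k) T'.k := by
      refine Nat.coprime_of_dvd fun l hl h1 h2 => ?_
      rw [h'k] at h2
      obtain ⟨-, -, e1, e2, -⟩ := S.singer_prime hm hl (hprod ▸ h2.mul_left N)
      rcases hl.dvd_mul.1 h1 with h | h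
      · exact e1 (h.trans ⟨2, by omega⟩)
      · exact e2 (h.trans ⟨4, by omega⟩)
    have hdvd : Ts.k * Tk.k * T'.k ∣ F.D := c3.mul_dvd_of_dvd_of_dvd (c12.mul_dvd_of_dvd_of_dvd d1 d2) d3
    have hDpos : 0 < F.D := by omega
    have hDge := Nat.le_of_dvd hDpos hdvd
    have hρ5 : F.rho = 5 := by
      rcases j_cases F hρ hn3 with ⟨-, h⟩ | ⟨-, h⟩ <;> omega
    refine F.two_conj hc hd ha hgT (C := (q : ℝ) ^ 3) (W := 2 * q) (by exact_mod_cast hC) (by omega) (by omega) ?_ ?_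
    · rw [hρ5, hk]
      have : N ≤ 2 * q := by rcases hN with h | h <;> omega
      have : (N : ℝ) ≤ 2 * q := by exact_mod_cast this
      push_cast
      linarith
    · have hQ : (243 : ℝ) ≤ q := by exact_mod_cast hq243
      have hn0 : (36 : ℝ) ≤ F.n := by exact_mod_cast hn36
      have hD10 : (q : ℝ) ^ 3 ≤ 12 * F.D := by
        have e1 : 3 * (q - 1) ≤ 7 * Ts.k := by omega
        have e2 : q + 1 ≤ 4 * Tk.k := by omega
        have e3 : 7 * q ≤ 8 * T'.k := by rcases hN' with h | h <;> omega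
        have : q ^ 3 ≤ 12 * (Ts.k * Tk.k * T'.k) := prod_bound hq243 e1 e2 e3
        exact_mod_cast this.trans (Nat.mul_le_mul_left 12 hDge)
      rw [Nat.cast_add, Nat.cast_sub (Nat.le_self_pow two_ne_zero q)]
      refine lt_of_eq_of_lt ?_ (big_numeric hQ hn0 hD10)
      push_cast [hq]
      ring

end SetupG2

end CfsgLib.Chev
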